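import Cfsg.Agent.Lib.Suzuki.Martineau.Endo
import Cfsg.Agent.Lib.Suzuki.Model

/-!
# The relations of the Suzuki group used for its modules
-/

set_option autoImplicit false
set_option linter.unusedSectionVars false

namespace CfsgLib.Suzuki.Martineau

variable {F : Type*} [Field F] [CharP F 2] [Fintype F] {m : ℕ} (h : ThSq F m)

/-- The automorphism `th m` as an equivalence. -/
noncomputable def thEquiv : F ≃+* F :=
  RingEquiv.ofBijective (th m) ⟨(th (F := F) m).injective, th_surjective h⟩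

theorem th_thEquiv_symm (x : F) : th m ((thEquiv h).symm x) = x := (thEquiv h).apply_symm_apply x

theorem symm_sq (x : F) : (thEquiv h).symm x ^ 2 = th m x := by
  rw [← h, th_thEquiv_symm]

/-- The diagonal elements, scaled by their action on the first coordinate. -/
noncomputable def dG : Fˣ →* Cfsg.Sz F m :=
  (hG h).comp (Units.map ((thEquiv h).symm : F →* F))

theorem dG_conj (y : Fˣ) (a b : F) :
    dG h y * tG h a b * (dG h y)⁻¹ = tG h ((y : F) * a) (nu m (y : F) * b) := by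
  rw [dG, MonoidHom.comp_apply, hG_conj]
  simp only [Units.coe_map, MonoidHom.coe_coe, th_thEquiv_symm, symm_sq, nu]

theorem dG_conj' (y : Fˣ) (a b : F) :
    dG h y * tG h a b = tG h ((y : F) * a) (nu m (y : F) * b) * dG h y := by
  rw [← dG_conj, inv_mul_cancel_right]

theorem wG_inv : (wG (m := m) h : Cfsg.Sz F m)⁻¹ = wG h := inv_eq_of_mul_eq_one_right (wG_sq h)

theorem wG_dG (y : Fˣ) : wG h * dG h y = (dG h y)⁻¹ * wG h := by
  rw [← map_inv, dG, MonoidHom.comp_apply, MonoidHom.comp_apply, map_inv]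
  exact mul_inv_eq_iff_eq_mul.1 (hG_w h _)

theorem dG_wG (y : Fˣ) : dG h y * wG h = wG h * (dG h y)⁻¹ := by
  rw [← map_inv, wG_dG, map_inv, inv_inv]

/-- The element of order four above the involution `tG 0 1`. -/
theorem tG_one_sq : tG h (1 : F) 0 * tG h 1 0 = tG h 0 1 := by rw [tG_sq, map_one, mul_one]

/-- The basic relation of `Sz(2)`. -/
theorem wzw_one : wG h * tG h (0 : F) 1 * wG h = tG h 1 0 * wG h * (tG h 1 0)⁻¹ := by
  rw [tG_inv, map_one, mul_one, zero_add]
  apply Subtype.ext; apply Subtype.ext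
  show (wSL F).1 * tMat m (0 : F) 1 * (wSL F).1 = tMat m 1 0 * (wSL F).1 * tMat m 1 1
  ext i j
  fin_cases i <;> fin_cases j <;>
    simp [tMat, wSL, Matrix.mul_apply, Fin.sum_univ_four, CharTwo.add_self_eq_zero]

/-- The basic relation, scaled. -/
theorem wzw (y : Fˣ) : wG h * tG h 0 (nu m (y : F))⁻¹ * wG h =
    tG h (y : F) 0 * (dG h y * dG h y * wG h) * (tG h (y : F) 0)⁻¹ := by
  have e1 : tG h 0 (nu m (y : F))⁻¹ = (dG h y)⁻¹ * tG h 0 1 * dG h y := by
    rw [← map_inv, show dG h y = (dG h y⁻¹)⁻¹ by rw [map_inv, inv_inv], dG_conj, mul_zero, mul_one,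
      Units.val_inv_eq_inv_val, nu_inv]
  have e2 : tG h (y : F) 0 = dG h y * tG h 1 0 * (dG h y)⁻¹ := by rw [dG_conj, mul_one, mul_zero]
  calc wG h * tG h 0 (nu m (y : F))⁻¹ * wG h
      = wG h * (dG h y)⁻¹ * tG h 0 1 * (dG h y * wG h) := by rw [e1]; group
    _ = dG h y * wG h * tG h 0 1 * (wG h * (dG h y)⁻¹) := by rw [dG_wG]
    _ = dG h y * (wG h * tG h 0 1 * wG h) * (dG h y)⁻¹ := by group
    _ = dG h y * (tG h 1 0 * wG h * (tG h 1 0)⁻¹) * (dG h y)⁻¹ := by rw [wzw_one]
    _ = tG h (y : F) 0 * (dG h y * (wG h * (dG h y)⁻¹)) * (tG h (y : F) 0)⁻¹ := by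
      rw [e2]; group
    _ = tG h (y : F) 0 * (dG h y * dG h y * wG h) * (tG h (y : F) 0)⁻¹ := by
      rw [← dG_wG]; group

/-- The element of order five. -/
def xG : Cfsg.Sz F m := tG h 0 1 * wG h

theorem z_sq : tG h (0 : F) 1 * tG h 0 1 = 1 := by rw [tG_sq, map_zero, zero_mul, tG_zero]

theorem xG_inv : (xG h)⁻¹ = wG h * tG h (0 : F) 1 := by
  rw [xG, mul_inv_rev, wG_inv, inv_eq_of_mul_eq_one_right (z_sq h)]

theorem xG_sq : xG h * xG h = tG h (0 : F) 1 * tG h 1 0 * wG h * (tG h 1 0)⁻¹ := by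
  rw [xG, mul_assoc, ← mul_assoc (wG h), wzw_one]; group

theorem xG_inv_sq : (xG h)⁻¹ * (xG h)⁻¹ = tG h (1 : F) 0 * wG h * (tG h 1 0)⁻¹ * tG h 0 1 := by
  rw [xG_inv, ← mul_assoc, wzw_one]

theorem xG_pow_five : (xG h) ^ 5 = 1 := by
  set u := tG h (1 : F) 0 with hu
  have hu4 : u * u * (u * u) = 1 := by rw [hu, tG_one_sq, z_sq]
  have hx2 : xG h * xG h = u⁻¹ * wG h * u⁻¹ := by
    rw [xG_sq, ← tG_one_sq, ← hu]
    have e : u * u * u = u⁻¹ := eq_inv_of_mul_eq_one_left (by rw [← hu4]; group)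
    rw [e]
  have hz : u⁻¹ * u⁻¹ = tG h (0 : F) 1 := by
    rw [← mul_inv_rev, hu, tG_one_sq]; exact inv_eq_of_mul_eq_one_right (z_sq h)
  have hx4 : xG h * xG h * (xG h * xG h) = (xG h)⁻¹ := by
    calc xG h * xG h * (xG h * xG h) = u⁻¹ * (wG h * (u⁻¹ * u⁻¹) * wG h) * u⁻¹ := by
          rw [hx2]; group
      _ = wG h * (u⁻¹ * u⁻¹) := by rw [hz, wzw_one, ← hu, ← hz]; group
      _ = (xG h)⁻¹ := by rw [hz, xG_inv]
  calc xG h ^ 5 = xG h * (xG h * xG h * (xG h * xG h)) := by simp [pow_succ, mul_assoc]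
    _ = 1 := by rw [hx4, mul_inv_cancel]

/-- Conjugates of an element of order four by unipotent elements. -/
theorem tG_conj (c d a b : F) : tG h c d * tG h a b * (tG h c d)⁻¹ =
    tG h a (b + (th m c * a + th m a * c)) := by
  rw [mul_inv_eq_iff_eq_mul, tG_mul, tG_mul, add_comm c a]
  congr 1
  linear_combination (-(th m a * c)) * CharTwo.two_eq_zero (R := F)

theorem tG_conj_cases {a : F} (ha : a ≠ 0) (b : F) : ∃ c : F,
    tG h a b = tG h c 0 * tG h a 0 * (tG h c 0)⁻¹ ∨
    tG h a b = tG h c 0 * (tG h a 0)⁻¹ * (tG h c 0)⁻¹ := by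
  classical
  let L : F →+ F := (th m).toAddMonoidHom + AddMonoidHom.id F
  have hL : ∀ x, L x = th m x + x := fun x => rfl
  have hker : Nat.card L.ker = 2 := by
    rw [Nat.card_eq_two_iff]
    refine ⟨0, ⟨1, by simp [hL, CharTwo.add_self_eq_zero]⟩, fun e => by
      simpa using congrArg Subtype.val e, ?_⟩
    rw [Set.eq_univ_iff_forall]
    intro ⟨x, hx⟩
    rw [AddMonoidHom.mem_ker, hL] at hx
    rcases th_eq_self h (show th m x = x by
      linear_combination hx - x * CharTwo.two_eq_zero (R := F)) with rfl | rfl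
    · exact Or.inl rfl
    · exact Or.inr rfl
  have hidx : L.range.index = 2 := by
    rw [AddSubgroup.index, ← hker]
    have h1 := AddSubgroup.card_eq_card_quotient_mul_card_addSubgroup L.range
    have h2 := AddSubgroup.card_eq_card_quotient_mul_card_addSubgroup L.ker
    rw [Nat.card_congr (QuotientAddGroup.quotientKerEquivRange L).toEquiv] at h2
    exact Nat.eq_of_mul_eq_mul_right Nat.card_pos (h1.symm.trans (h2.trans (mul_comm _ _)))
  have hone : (1 : F) ∉ L.range := by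
    rintro ⟨x, hx⟩
    rw [hL] at hx
    have e1 : th m x = x + 1 := by linear_combination hx - x * CharTwo.two_eq_zero (R := F)
    have e2 := h x
    rw [e1, map_add, map_one, e1] at e2
    rcases mul_eq_zero.1 (show x * (x - 1) = 0 by
      linear_combination CharTwo.two_eq_zero (R := F) - e2) with h' | h'
    · rw [h'] at e1; simp at e1
    · rw [sub_eq_zero.1 h'] at e1; simp [CharTwo.add_self_eq_zero] at e1
  have hta : th m a * a ≠ 0 := mul_ne_zero (by simpa using ha) ha
  by_cases hb : b / (th m a * a) ∈ L.range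
  · obtain ⟨x, hx⟩ := hb
    refine ⟨x * a, Or.inl ?_⟩
    rw [tG_conj, zero_add]
    congr 1
    rw [hL, eq_div_iff hta] at hx
    rw [map_mul]
    linear_combination -hx
  · have hb1 : b / (th m a * a) + 1 ∈ L.range :=
      (AddSubgroup.add_mem_iff_of_index_two hidx).2 (iff_of_false hb hone)
    obtain ⟨x, hx⟩ := hb1
    refine ⟨x * a, Or.inr ?_⟩
    rw [tG_inv, zero_add, tG_conj]
    congr 1
    rw [hL, div_add_one hta, eq_div_iff hta] at hx
    rw [map_mul]
    linear_combination -hx - th m a * a * CharTwo.two_eq_zero (R := F)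

end CfsgLib.Suzuki.Martineau
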