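import Cfsg.Agent.Lib.Suzuki.Martineau.Linearize
import Cfsg.Agent.Lib.Amalgam.HigmanSL2Group

/-!
# Extensions of a 2-group by a Suzuki group with a fixed-point-free element of order five

Martineau's theorem: the 2-group is elementary abelian.
-/

set_option autoImplicit false
set_option linter.unusedSectionVars false
set_option linter.style.haveILetI false

namespace CfsgLib.Suzuki.Martineau

open Subgroup CfsgLib.Amalgam.Higman
open scoped commutatorElement

variable {F : Type*} [Field F] [CharP F 2] [Fintype F] {m : ℕ}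
variable {G : Type*} [Group G] [Finite G] {Q : Subgroup G} [Q.Normal]

/-- The action of the quotient on a normal subgroup centralised by `Q`. -/
noncomputable def phiSz (e : G ⧸ Q ≃* Cfsg.Sz F m) (A : Subgroup G) [A.Normal]
    (hA : Q ≤ centralizer (A : Set G)) : Cfsg.Sz F m →* MulAut ↥A :=
  (QuotientGroup.lift Q (MulAut.conjNormal (H := A)) fun q hq => by
    rw [MonoidHom.mem_ker]
    ext a
    rw [MulAut.conjNormal_apply, MulAut.one_apply]
    exact mul_inv_eq_iff_eq_mul.2 ((mem_centralizer_iff.1 (hA hq) a a.2).symm)).comp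
    e.symm.toMonoidHom

theorem phiSz_apply (e : G ⧸ Q ≃* Cfsg.Sz F m) (A : Subgroup G) [A.Normal]
    (hA : Q ≤ centralizer (A : Set G)) (g : G) (a : ↥A) :
    (phiSz e A hA (e (QuotientGroup.mk' Q g)) a : G) = g * a * g⁻¹ := by
  simp [phiSz]

/-- An action on an elementary abelian group as a representation. -/
noncomputable def autRep {A : Type*} [CommGroup A] [Module (ZMod 2) (Additive A)]
    (φ : Cfsg.Sz F m →* MulAut A) : Representation (ZMod 2) (Cfsg.Sz F m) (Additive A) where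
  toFun g := (MonoidHom.toAdditive (φ g).toMonoidHom).toZModLinearMap 2
  map_one' := LinearMap.ext fun a => congrArg Additive.ofMul (by
    show φ 1 (Additive.toMul a) = _; rw [map_one]; rfl)
  map_mul' g k := LinearMap.ext fun a => congrArg Additive.ofMul (by
    show φ (g * k) (Additive.toMul a) = _; rw [map_mul]; rfl)

theorem autRep_apply {A : Type*} [CommGroup A] [Module (ZMod 2) (Additive A)]
    (φ : Cfsg.Sz F m →* MulAut A) (g : Cfsg.Sz F m) (a : A) :
    autRep φ g (Additive.ofMul a) = Additive.ofMul (φ g a) := rfl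

/-- A normal extension of elementary abelian by elementary abelian is elementary abelian. -/
theorem elementary_step (P : Param F m) (e : G ⧸ Q ≃* Cfsg.Sz F m) {x : G}
    (hex : e (QuotientGroup.mk' Q x) = xG P.h)
    (hfpf : ∀ q ∈ Q, x * q * x⁻¹ = q → q = 1) (R : Subgroup G) [R.Normal] (hRQ : R ≤ Q)
    (hcent : R ≤ centralizer (Q : Set G)) (hR2 : ∀ r ∈ R, r * r = 1)
    (hcomm : ∀ a ∈ Q, ∀ b ∈ Q, ⁅a, b⁆ ∈ R) (hsq : ∀ a ∈ Q, a * a ∈ R) :
    (∀ a ∈ Q, ∀ b ∈ Q, a * b = b * a) ∧ ∀ a ∈ Q, a * a = 1 := by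
  have hQR : Q ≤ centralizer (R : Set G) := fun q hq =>
    mem_centralizer_iff.2 fun r hr => (mem_centralizer_iff.1 (hcent hr) q hq).symm
  let _ : CommGroup ↥R :=
    { (inferInstance : Group ↥R) with
      mul_comm := fun a b => Subtype.ext (mem_centralizer_iff.1 (hcent b.2) a (hRQ a.2)) }
  set Q2 := Q.map (QuotientGroup.mk' R) with hQ2
  haveI : Q2.Normal := Normal.map ‹Q.Normal› _ (QuotientGroup.mk'_surjective R)
  let e2 : (G ⧸ R) ⧸ Q2 ≃* Cfsg.Sz F m :=
    (QuotientGroup.quotientQuotientEquivQuotient R Q hRQ).trans e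
  have he2 : ∀ g : G, e2 (QuotientGroup.mk' Q2 (QuotientGroup.mk' R g)) =
      e (QuotientGroup.mk' Q g) := fun g => rfl
  have h2comm : ∀ a ∈ Q2, ∀ b ∈ Q2, a * b = b * a := by
    rintro _ ⟨a, ha, rfl⟩ _ ⟨b, hb, rfl⟩
    rw [← commutatorElement_eq_one_iff_mul_comm, ← map_commutatorElement]
    exact (QuotientGroup.eq_one_iff _).2 (hcomm a ha b hb)
  have hQ2c : Q2 ≤ centralizer (Q2 : Set (G ⧸ R)) := fun a ha =>
    mem_centralizer_iff.2 fun b hb => h2comm b hb a ha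
  let _ : CommGroup ↥Q2 :=
    { (inferInstance : Group ↥Q2) with
      mul_comm := fun a b => Subtype.ext (h2comm _ a.2 _ b.2) }
  letI : Module (ZMod 2) (Additive ↥R) := AddCommGroup.zmodModule fun r => by
    rw [two_nsmul]
    exact congrArg Additive.ofMul (Subtype.ext (hR2 _ r.toMul.2) : r.toMul * r.toMul = 1)
  letI : Module (ZMod 2) (Additive ↥Q2) := AddCommGroup.zmodModule fun r => by
    rw [two_nsmul]
    refine congrArg Additive.ofMul (Subtype.ext ?_ : r.toMul * r.toMul = 1)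
    obtain ⟨q, hq, hqr⟩ := r.toMul.2
    show (r.toMul : G ⧸ R) * r.toMul = 1
    rw [← hqr, ← map_mul]
    exact (QuotientGroup.eq_one_iff _).2 (hsq q hq)
  have hlift : ∀ a : ↥Q2, ∃ q : ↥Q, QuotientGroup.mk' R (q : G) = (a : G ⧸ R) := by
    rintro ⟨_, q, hq, rfl⟩
    exact ⟨⟨q, hq⟩, rfl⟩
  choose lift hl using hlift
  -- changing a lift does not change a commutator
  have cl : ∀ q q' r : G, r ∈ Q → QuotientGroup.mk' R q = QuotientGroup.mk' R q' →
      ⁅q, r⁆ = ⁅q', r⁆ := by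
    intro q q' r hr h
    rw [QuotientGroup.mk'_apply, QuotientGroup.mk'_apply, QuotientGroup.eq] at h
    have hz := mem_centralizer_iff.1 (hcent h) r hr
    calc ⁅q, r⁆ = q * (r * (q⁻¹ * q')) * (q⁻¹ * q')⁻¹ * q⁻¹ * r⁻¹ := by
          simp only [commutatorElement_def]; group
      _ = ⁅q', r⁆ := by rw [hz]; simp only [commutatorElement_def]; group
  have cr : ∀ q r r' : G, q ∈ Q → QuotientGroup.mk' R r = QuotientGroup.mk' R r' →
      ⁅q, r⁆ = ⁅q, r'⁆ := by
    intro q r r' hq h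
    rw [← commutatorElement_inv r q, ← commutatorElement_inv r' q, cl r r' q hq h]
  have cm : ∀ q q' r : G, q ∈ Q → q' ∈ Q → r ∈ Q → ⁅q * q', r⁆ = ⁅q, r⁆ * ⁅q', r⁆ := by
    intro q q' r hq hq' hr
    have hz := hcent (hcomm q' hq' r hr)
    calc ⁅q * q', r⁆ = q * ⁅q', r⁆ * q⁻¹ * ⁅q, r⁆ := by
          simp only [commutatorElement_def]; group
      _ = ⁅q', r⁆ * ⁅q, r⁆ := by rw [mem_centralizer_iff.1 hz q hq, mul_inv_cancel_right]
      _ = ⁅q, r⁆ * ⁅q', r⁆ :=
        (mem_centralizer_iff.1 hz _ (hRQ (hcomm q hq r hr))).symm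
  let B : ↥Q2 → ↥Q2 → ↥R := fun a b => ⟨_, hcomm _ (lift a).2 _ (lift b).2⟩
  have hBl : ∀ a b c, B (a * b) c = B a c * B b c := fun a b c => Subtype.ext (by
    show ⁅((lift (a * b) : ↥Q) : G), ((lift c : ↥Q) : G)⁆ = ⁅_, _⁆ * ⁅_, _⁆
    rw [← cm _ _ _ (lift a).2 (lift b).2 (lift c).2]
    exact cl _ _ _ (lift c).2 (by rw [map_mul, hl, hl, hl]; rfl))
  have hBr : ∀ a b c, B a (b * c) = B a b * B a c := fun a b c => Subtype.ext (by
    show ⁅((lift a : ↥Q) : G), ((lift (b * c) : ↥Q) : G)⁆ = ⁅_, _⁆ * ⁅_, _⁆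
    have h1 : ⁅((lift (b * c) : ↥Q) : G), ((lift a : ↥Q) : G)⁆ =
        ⁅((lift b : ↥Q) : G), ((lift a : ↥Q) : G)⁆ * ⁅((lift c : ↥Q) : G), ((lift a : ↥Q) : G)⁆ :=
      congrArg Subtype.val (hBl b c a)
    rw [← commutatorElement_inv, h1, _root_.mul_inv_rev, commutatorElement_inv,
      commutatorElement_inv]
    exact (mem_centralizer_iff.1 (hcent (hcomm _ (lift a).2 _ (lift c).2)) _
      (hRQ (hcomm _ (lift a).2 _ (lift b).2))).symm)
  have heq : ∀ g a b, B (phiSz e2 Q2 hQ2c g a) (phiSz e2 Q2 hQ2c g b) =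
      phiSz e R hQR g (B a b) := by
    intro g a b
    obtain ⟨y, rfl⟩ : ∃ y, e (QuotientGroup.mk' Q y) = g := by
      obtain ⟨y, hy⟩ := QuotientGroup.mk'_surjective Q (e.symm g)
      exact ⟨y, by rw [hy, e.apply_symm_apply]⟩
    have hcl : ∀ c : ↥Q2, QuotientGroup.mk' R
        ((lift (phiSz e2 Q2 hQ2c (e (QuotientGroup.mk' Q y)) c) : ↥Q) : G) =
        QuotientGroup.mk' R (y * ((lift c : ↥Q) : G) * y⁻¹) := fun c => by
      rw [hl, ← he2, phiSz_apply, map_mul, map_mul, map_inv, hl]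
    apply Subtype.ext
    rw [phiSz_apply]
    show ⁅((lift _ : ↥Q) : G), ((lift _ : ↥Q) : G)⁆ =
      y * ⁅((lift a : ↥Q) : G), ((lift b : ↥Q) : G)⁆ * y⁻¹
    rw [cl _ _ _ (lift _).2 (hcl a),
      cr _ _ _ (Normal.conj_mem ‹Q.Normal› _ (lift a).2 y) (hcl b),
      conjugate_commutatorElement]
  have hfix2 : ∀ v, autRep (phiSz e2 Q2 hQ2c) (xG P.h) v = v → v = 0 := by
    intro v hv
    refine congrArg Additive.ofMul (Subtype.ext ?_ : v.toMul = 1)
    obtain ⟨q, hq, hqv⟩ := v.toMul.2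
    have h1 : ((phiSz e2 Q2 hQ2c (xG P.h) v.toMul : ↥Q2) : G ⧸ R) = v.toMul :=
      congrArg (fun w : Additive ↥Q2 => ((w.toMul : ↥Q2) : G ⧸ R)) hv
    rw [← hex, ← he2, phiSz_apply, ← hqv, ← map_inv, ← map_mul, ← map_mul, eq_comm] at h1
    rw [QuotientGroup.mk'_apply, QuotientGroup.mk'_apply, QuotientGroup.eq] at h1
    show (v.toMul : G ⧸ R) = 1
    rw [← hqv]
    exact (QuotientGroup.eq_one_iff q).2 (mem_of_commutator_mem hRQ hfpf hq h1)
  have hfixR : ∀ v, autRep (phiSz e R hQR) (xG P.h) v = v → v = 0 := by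
    intro v hv
    refine congrArg Additive.ofMul (Subtype.ext ?_ : v.toMul = 1)
    have h1 : ((phiSz e R hQR (xG P.h) v.toMul : ↥R) : G) = v.toMul :=
      congrArg (fun w : Additive ↥R => ((w.toMul : ↥R) : G)) hv
    rw [← hex, phiSz_apply] at h1
    exact hfpf _ (hRQ v.toMul.2) h1
  let β : Additive ↥Q2 →ₗ[ZMod 2] Additive ↥Q2 →ₗ[ZMod 2] Additive ↥R :=
    (AddMonoidHom.mk' (fun a => (AddMonoidHom.mk' (fun b => Additive.ofMul (B a.toMul b.toMul))
        fun b c => congrArg Additive.ofMul (hBr a.toMul b.toMul c.toMul)).toZModLinearMap 2)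
      fun a b => LinearMap.ext fun c =>
        congrArg Additive.ofMul (hBl a.toMul b.toMul c.toMul)).toZModLinearMap 2
  have hab : ∀ a ∈ Q, ∀ b ∈ Q, a * b = b * a := by
    intro a ha b hb
    have h1 := pairing_eq_zero P hfix2 hfix2 hfixR β
      (fun g u v => congrArg Additive.ofMul (heq g u.toMul v.toMul))
      (Additive.ofMul (⟨_, mem_map_of_mem _ ha⟩ : ↥Q2))
      (Additive.ofMul (⟨_, mem_map_of_mem _ hb⟩ : ↥Q2))
    rw [← commutatorElement_eq_one_iff_mul_comm]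
    refine Eq.trans ?_ (congrArg (fun w : Additive ↥R => ((w.toMul : ↥R) : G)) h1)
    show ⁅a, b⁆ = ⁅((lift _ : ↥Q) : G), ((lift _ : ↥Q) : G)⁆
    exact ((cl _ a _ (lift _).2 (hl _)).trans (cr a _ b ha (hl _))).symm
  refine ⟨hab, fun a ha => ?_⟩
  let _ : CommGroup ↥Q :=
    { (inferInstance : Group ↥Q) with mul_comm := fun a b => Subtype.ext (hab _ a.2 _ b.2) }
  have hQc : Q ≤ centralizer (Q : Set G) := fun a ha => mem_centralizer_iff.2 fun b hb => hab b hb a ha
  let T : Cfsg.Sz F m →* AddMonoid.End (Additive ↥Q) :=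
    { toFun := fun g => MonoidHom.toAdditive (phiSz e Q hQc g).toMonoidHom
      map_one' := AddMonoidHom.ext fun a => congrArg Additive.ofMul (by
        show phiSz e Q hQc 1 a.toMul = _; rw [map_one]; rfl)
      map_mul' := fun g k => AddMonoidHom.ext fun a => congrArg Additive.ofMul (by
        show phiSz e Q hQc (g * k) a.toMul = _; rw [map_mul]; rfl) }
  have hT : ∀ g (q : Additive ↥Q), ((Additive.toMul (T (e (QuotientGroup.mk' Q g)) q) : ↥Q) : G) =
      g * (q.toMul : G) * g⁻¹ := fun g q => phiSz_apply e Q hQc g q.toMul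
  let Rs : AddSubgroup (Additive ↥Q) := Subgroup.toAddSubgroup (R.subgroupOf Q)
  have hRs : ∀ q : Additive ↥Q, q ∈ Rs ↔ (q.toMul : G) ∈ R := fun q => Iff.rfl
  have h0 := add_self_eq_zero_of_fpf P T Rs
    (fun g r hr => by
      obtain ⟨y, rfl⟩ : ∃ y, e (QuotientGroup.mk' Q y) = g := by
        obtain ⟨y, hy⟩ := QuotientGroup.mk'_surjective Q (e.symm g)
        exact ⟨y, by rw [hy, e.apply_symm_apply]⟩
      rw [hRs, hT]
      exact Normal.conj_mem ‹R.Normal› _ hr y)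
    (fun q => hsq _ q.toMul.2)
    (fun r hr => congrArg Additive.ofMul (Subtype.ext (hR2 _ hr) : r.toMul * r.toMul = 1))
    (fun q hq => by
      refine congrArg Additive.ofMul (Subtype.ext ?_ : q.toMul = 1)
      have h1 := congrArg (fun w : Additive ↥Q => ((w.toMul : ↥Q) : G)) hq
      rw [← hex] at h1
      exact hfpf _ q.toMul.2 ((hT x q).symm.trans h1))
    (fun q hq => by
      rw [hRs] at hq ⊢
      refine mem_of_commutator_mem hRQ hfpf q.toMul.2 ?_
      rw [← hex] at hq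
      have h1 : ((Additive.toMul (T (e (QuotientGroup.mk' Q x)) q - q) : ↥Q) : G) =
          x * (q.toMul : G) * x⁻¹ * (q.toMul : G)⁻¹ := by
        rw [toMul_sub, Subgroup.coe_div, hT, div_eq_mul_inv]
      rw [h1] at hq
      have := Normal.conj_mem ‹R.Normal› _ hq (q.toMul : G)⁻¹
      rwa [inv_inv, show (q.toMul : G)⁻¹ * (x * (q.toMul : G) * x⁻¹ * (q.toMul : G)⁻¹) * q.toMul =
        (q.toMul : G)⁻¹ * (x * q.toMul * x⁻¹) by group] at this)
    (Additive.ofMul ⟨a, ha⟩)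
  exact congrArg (fun w : Additive ↥Q => ((w.toMul : ↥Q) : G)) h0

universe u

/-- **Martineau**: the 2-group is elementary abelian. -/
theorem elementary (P : Param F m) : ∀ (n : ℕ) (G : Type u) [Group G] [Finite G],
    Nat.card G = n → ∀ (Q : Subgroup G) [Q.Normal], IsPGroup 2 ↥Q →
    ∀ (e : G ⧸ Q ≃* Cfsg.Sz F m) (x : G), e (QuotientGroup.mk' Q x) = xG P.h →
    (∀ q ∈ Q, x * q * x⁻¹ = q → q = 1) →
    (∀ a ∈ Q, ∀ b ∈ Q, a * b = b * a) ∧ ∀ a ∈ Q, a * a = 1 := by
  intro n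
  induction n using Nat.strong_induction_on with
  | _ n ih =>
  intro G _ _ hn Q _ hQ e x hex hfpf
  rcases eq_or_ne Q ⊥ with rfl | hQ1
  · exact ⟨fun a ha b hb => by rw [mem_bot.1 ha, mem_bot.1 hb],
      fun a ha => by rw [mem_bot.1 ha, one_mul]⟩
  obtain ⟨R, ⟨hRn, hR1, hRQ⟩, hmin⟩ := exists_minimal_of_wellFoundedLT
    (fun R : Subgroup G => R.Normal ∧ R ≠ ⊥ ∧ R ≤ Q) ⟨Q, inferInstance, hQ1, le_rfl⟩
  have hRp : IsPGroup 2 ↥R := hQ.to_le hRQ
  have hnQ : Q ≤ normalizer (R : Set G) := by rw [normalizer_eq_top]; exact le_top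
  haveI : Fact (Nat.Prime 2) := ⟨Nat.prime_two⟩
  have hC := CfsgLib.Amalgam.inf_centralizer_ne_bot hQ hRp hR1 hnQ
  haveI : (R ⊓ centralizer (Q : Set G)).Normal := inferInstance
  have hcent : R ≤ centralizer (Q : Set G) :=
    (hmin ⟨inferInstance, hC, inf_le_left.trans hRQ⟩ inf_le_left).trans inf_le_right
  have hRcomm : ∀ a ∈ R, ∀ b ∈ R, a * b = b * a := fun a ha b hb =>
    mem_centralizer_iff.1 (hcent hb) a (hRQ ha)
  let R2 : Subgroup G :=
    { carrier := {r | r ∈ R ∧ r * r = 1}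
      one_mem' := ⟨one_mem R, one_mul 1⟩
      mul_mem' := fun {a b} ha hb => ⟨mul_mem ha.1 hb.1, by
        calc a * b * (a * b) = a * (b * a) * b := by group
          _ = a * (a * b) * b := by rw [hRcomm b hb.1 a ha.1]
          _ = a * a * (b * b) := by group
          _ = 1 := by rw [ha.2, hb.2, one_mul]⟩
      inv_mem' := fun {a} ha => ⟨inv_mem ha.1, by rw [← _root_.mul_inv_rev, ha.2, inv_one]⟩ }
  have hR2n : R2.Normal := ⟨fun r hr g => ⟨hRn.conj_mem r hr.1 g, by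
    rw [show g * r * g⁻¹ * (g * r * g⁻¹) = g * (r * r) * g⁻¹ by group, hr.2, mul_one,
      mul_inv_cancel]⟩⟩
  have hdvd : 2 ∣ Nat.card ↥R := by
    obtain ⟨k, hk⟩ := IsPGroup.iff_card.1 hRp
    rw [hk]
    refine dvd_pow_self _ fun hk0 => hR1 ?_
    rw [hk0, pow_zero] at hk
    exact card_eq_one.1 hk
  obtain ⟨r, hr⟩ := exists_prime_orderOf_dvd_card' 2 hdvd
  have hR21 : R2 ≠ ⊥ := by
    intro h
    have hrr : (r : G) ∈ R2 :=
      ⟨r.2, by rw [← sq, ← hr, ← Subgroup.orderOf_coe r, pow_orderOf_eq_one]⟩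
    rw [h, mem_bot] at hrr
    rw [show r = 1 from Subtype.ext hrr, orderOf_one] at hr
    omega
  have hR2 : ∀ r ∈ R, r * r = 1 := fun r hr =>
    (hmin ⟨hR2n, hR21, fun s hs => hRQ hs.1⟩ (fun s hs => hs.1) hr).2
  set Q2 := Q.map (QuotientGroup.mk' R) with hQ2
  haveI : Q2.Normal := Normal.map ‹Q.Normal› _ (QuotientGroup.mk'_surjective R)
  have hlt : Nat.card (G ⧸ R) < n := by
    rw [← hn, card_eq_card_quotient_mul_card_subgroup R]
    exact lt_mul_of_one_lt_right Nat.card_pos (by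
      rw [← not_le]
      exact fun h => hR1 (card_eq_one.1 (le_antisymm h Nat.card_pos)))
  have hfpf2 : ∀ q ∈ Q2, QuotientGroup.mk' R x * q * (QuotientGroup.mk' R x)⁻¹ = q → q = 1 := by
    rintro _ ⟨q, hq, rfl⟩ h
    rw [← map_inv, ← map_mul, ← map_mul, eq_comm] at h
    rw [QuotientGroup.mk'_apply, QuotientGroup.mk'_apply, QuotientGroup.eq] at h
    exact (QuotientGroup.eq_one_iff q).2 (mem_of_commutator_mem hRQ hfpf hq h)
  obtain ⟨hc2, hs2⟩ := ih _ hlt (G ⧸ R) rfl Q2 (hQ.map _)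
    ((QuotientGroup.quotientQuotientEquivQuotient R Q hRQ).trans e) (QuotientGroup.mk' R x)
    hex hfpf2
  refine elementary_step P e hex hfpf R hRQ hcent hR2 (fun a ha b hb => ?_) fun a ha => ?_
  · rw [← QuotientGroup.eq_one_iff]
    show QuotientGroup.mk' R ⁅a, b⁆ = 1
    rw [map_commutatorElement, commutatorElement_eq_one_iff_mul_comm]
    exact hc2 _ (mem_map_of_mem _ ha) _ (mem_map_of_mem _ hb)
  · rw [← QuotientGroup.eq_one_iff]
    exact hs2 _ (mem_map_of_mem _ ha)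

end CfsgLib.Suzuki.Martineau
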