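import Cfsg.Agent.Lib.Suzuki.Martineau.Rel
import Mathlib.RepresentationTheory.Basic

/-!
# Modules for a Suzuki group on which the element of order five acts without fixed points

The main result here is `exists_weight`: the torus acts on a vector fixed by the unipotent subgroup
by a twist of the natural weight.
-/

set_option autoImplicit false
set_option linter.unusedSectionVars false
set_option linter.style.haveILetI false

namespace CfsgLib.Suzuki.Martineau

/-- The parameters. -/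
structure Param (F : Type*) [Field F] [Fintype F] (m : ℕ) : Prop where
  hm : 1 ≤ m
  hF : Fintype.card F = 2 ^ (2 * m + 1)

variable {F : Type*} [Field F] [CharP F 2] [Fintype F] {m : ℕ}

theorem Param.h (P : Param F m) : ThSq F m := thSq_of_card P.hF

variable {V : Type*} [AddCommGroup V] [Module F V] (ρ : Representation F (Cfsg.Sz F m) V)
  (h : ThSq F m)

theorem vadd_self (F : Type*) [Field F] [CharP F 2] {V : Type*} [AddCommGroup V] [Module F V]
    (v : V) : v + v = 0 := by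
  rw [← one_smul F v, ← add_smul, CharTwo.add_self_eq_zero, zero_smul]

theorem vneg (F : Type*) [Field F] [CharP F 2] {V : Type*} [AddCommGroup V] [Module F V]
    (v : V) : -v = v := neg_eq_of_add_eq_zero_left (vadd_self (F := F) v)

theorem vsub (F : Type*) [Field F] [CharP F 2] {V : Type*} [AddCommGroup V] [Module F V]
    (v w : V) : v - w = v + w := by rw [sub_eq_add_neg, vneg (F := F)]

theorem rmul (g k : Cfsg.Sz F m) (v : V) : ρ (g * k) v = ρ g (ρ k v) := by
  rw [map_mul]; rfl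

theorem rone (v : V) : ρ 1 v = v := by rw [map_one]; rfl

/-- The element of order five has no fixed point, written as an identity. -/
def Fpf : Prop := ∀ v : V, v + ρ (xG h) v + ρ (xG h)⁻¹ v + ρ (xG h * xG h) v +
  ρ ((xG h)⁻¹ * (xG h)⁻¹) v = 0

theorem fpf_of_fixed (hx : ∀ v, ρ (xG h) v = v → v = 0) : Fpf ρ h := fun v => by
  refine hx _ ?_
  have e : xG h * (xG h * xG h) = (xG h)⁻¹ * (xG h)⁻¹ := by
    rw [← mul_inv_rev, eq_inv_iff_mul_eq_one, ← xG_pow_five h]
    simp [pow_succ, mul_assoc]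
  simp only [map_add, ← rmul, mul_inv_cancel, mul_inv_cancel_left, e, rone]
  abel

theorem fixed_eq_zero (hf : Fpf ρ h) {v : V} (hv : ρ (xG h) v = v) : v = 0 := by
  have hv' : ρ (xG h)⁻¹ v = v := by
    conv_lhs => rw [← hv]
    rw [← rmul, inv_mul_cancel, rone]
  have := hf v
  rwa [rmul, rmul, hv, hv, hv', hv', vadd_self (F := F), zero_add, add_assoc,
    vadd_self (F := F), add_zero] at this

/-- An element minus one. -/
def dl (g : Cfsg.Sz F m) : V →ₗ[F] V := ρ g - 1

theorem dl_apply (g : Cfsg.Sz F m) (v : V) : dl ρ g v = ρ g v + v := by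
  rw [← vsub (F := F)]; rfl

theorem dl_mul (g k : Cfsg.Sz F m) (v : V) :
    dl ρ (g * k) v = dl ρ g v + dl ρ k v + dl ρ g (dl ρ k v) := by
  simp only [dl_apply, map_add, rmul]
  rw [show ρ g v + v + (ρ k v + v) + (ρ g (ρ k v) + ρ k v + (ρ g v + v)) =
    ρ g (ρ k v) + v + ((ρ g v + ρ g v) + (ρ k v + ρ k v) + (v + v)) by abel]
  simp only [vadd_self (F := F), add_zero]

theorem dl_comm {g k : Cfsg.Sz F m} (e : g * k = k * g) (v : V) :
    dl ρ g (dl ρ k v) = dl ρ k (dl ρ g v) := by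
  simp only [dl_apply, map_add]
  rw [← rmul, ← rmul, e]; abel

theorem dl_dl_of_sq {g : Cfsg.Sz F m} (e : g * g = 1) (v : V) : dl ρ g (dl ρ g v) = 0 := by
  have := dl_mul ρ g g v
  rwa [e, vadd_self (F := F), zero_add, dl_apply ρ 1, rone, vadd_self (F := F), eq_comm] at this

theorem dl_eq_zero_iff {g : Cfsg.Sz F m} {v : V} : dl ρ g v = 0 ↔ ρ g v = v := by
  show ρ g v - v = 0 ↔ _
  rw [sub_eq_zero]

/-- The action of `tG a 0` minus one. -/
def opX (a : F) : V →ₗ[F] V := dl ρ (tG h a 0)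

/-- The action of `tG 0 b` minus one. -/
def opZ (b : F) : V →ₗ[F] V := dl ρ (tG h 0 b)

/-- The Weyl element. -/
def opW : V →ₗ[F] V := ρ (wG h)

/-- A vector fixed by the unipotent subgroup. -/
def IsFix (v : V) : Prop := ∀ a b : F, ρ (tG h a b) v = v

/-- A vector on which the torus acts by a character. -/
def IsWt (χ : F → F) (v : V) : Prop := ∀ y : Fˣ, ρ (dG h y) v = χ (y : F) • v

theorem tG_split (a b : F) : tG h a b = tG h 0 b * tG h a 0 := by
  rw [tG_mul, map_zero, zero_mul, add_zero, add_zero, zero_add]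

theorem isFix_of_ops {v : V} (hz : ∀ b, opZ ρ h b v = 0) (hx : ∀ a, opX ρ h a v = 0) :
    IsFix ρ h v := fun a b => by
  rw [tG_split, rmul, (dl_eq_zero_iff ρ).1 (hx a), (dl_eq_zero_iff ρ).1 (hz b)]

theorem opW_opW (v : V) : opW ρ h (opW ρ h v) = v := by
  rw [opW, ← rmul, wG_sq, rone]

theorem tG_nu (a : F) : tG h a 0 * tG h a 0 = tG h 0 (nu m a) := by
  rw [tG_sq, nu, mul_comm]

theorem tG_zero_sq (b : F) : tG h (0 : F) b * tG h 0 b = 1 := by
  rw [tG_sq, map_zero, zero_mul, tG_zero]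

theorem tG_zero_comm (b a c : F) : tG h (0 : F) b * tG h a c = tG h a c * tG h 0 b := by
  rw [tG_mul, tG_mul]; simp [add_comm]

theorem opZ_opZ_self (b : F) (v : V) : opZ ρ h b (opZ ρ h b v) = 0 :=
  dl_dl_of_sq ρ (tG_zero_sq h b) v

theorem opZ_comm (b c : F) (v : V) : opZ ρ h b (opZ ρ h c v) = opZ ρ h c (opZ ρ h b v) :=
  dl_comm ρ (tG_zero_comm h b 0 c) v

theorem opZ_opX_comm (b a : F) (v : V) : opZ ρ h b (opX ρ h a v) = opX ρ h a (opZ ρ h b v) :=
  dl_comm ρ (tG_zero_comm h b a 0) v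

theorem opZ_add (b c : F) (v : V) :
    opZ ρ h (b + c) v = opZ ρ h b v + opZ ρ h c v + opZ ρ h b (opZ ρ h c v) := by
  rw [opZ, opZ, opZ, ← dl_mul, tG_mul, map_zero, zero_mul, add_zero, add_zero, add_comm c b]

theorem opZ_zero (v : V) : opZ ρ h 0 v = 0 := by
  rw [opZ, dl_apply, tG_zero, rone, vadd_self (F := F)]

theorem opX_zero (v : V) : opX ρ h 0 v = 0 := opZ_zero ρ h v

theorem opX_opX (a : F) (v : V) : opX ρ h a (opX ρ h a v) = opZ ρ h (nu m a) v := by
  rw [opX, opZ, ← tG_nu, dl_mul, vadd_self (F := F), zero_add]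

theorem opX_add (a c : F) (v : V) : opX ρ h (a + c) v + opZ ρ h (th m c * a) v +
    opZ ρ h (th m c * a) (opX ρ h (a + c) v) =
      opX ρ h c v + opX ρ h a v + opX ρ h c (opX ρ h a v) := by
  rw [opX, opX, opX, opZ, ← dl_mul ρ (tG h c 0) (tG h a 0), tG_mul, zero_add, zero_add,
    tG_split h (a + c) (th m c * a), dl_mul, add_comm (dl ρ (tG h 0 _) v)]

theorem dG_opX (y : Fˣ) (a : F) (v : V) :
    ρ (dG h y) (opX ρ h a v) = opX ρ h ((y : F) * a) (ρ (dG h y) v) := by
  simp only [opX, dl_apply, map_add, ← rmul, dG_conj', mul_zero]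

theorem dG_opZ (y : Fˣ) (b : F) (v : V) :
    ρ (dG h y) (opZ ρ h b v) = opZ ρ h (nu m (y : F) * b) (ρ (dG h y) v) := by
  simp only [opZ, dl_apply, map_add, ← rmul, dG_conj', mul_zero]

theorem opW_wt {χ : F → F} {v : V} (hv : IsWt ρ h χ v) :
    IsWt ρ h (fun y => χ y⁻¹) (opW ρ h v) := fun y => by
  rw [opW, ← rmul, dG_wG, ← map_inv, rmul, hv, map_smul]
  simp [Units.val_inv_eq_inv_val]

section Fpf

variable {ρ h} (hf : Fpf ρ h)
include hf

/-- The expanded identity. -/
theorem fpf_expand (v : V) : v + ρ (tG h 0 1 * wG h) v + ρ (wG h * tG h 0 1) v +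
    ρ (tG h 0 1 * tG h 1 0 * wG h * (tG h 1 0)⁻¹) v +
    ρ (tG h 1 0 * wG h * (tG h 1 0)⁻¹ * tG h 0 1) v = 0 := by
  have := hf v
  rwa [xG_inv_sq, xG_sq, xG_inv, xG] at this

/-- Vectors fixed by an element of order four are cubes. -/
theorem cube_one {q : V} (hq : opX ρ h 1 q = 0) :
    opX ρ h 1 (opX ρ h 1 (opX ρ h 1 (opW ρ h q))) = q := by
  have hu := (dl_eq_zero_iff ρ).1 hq
  have hz : ρ (tG h 0 1) q = q := by rw [← tG_one_sq, rmul, hu, hu]
  have hu' : ρ (tG h 1 0)⁻¹ q = q := by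
    conv_lhs => rw [← hu]
    rw [← rmul, inv_mul_cancel, rone]
  have key := fpf_expand hf q
  simp only [rmul, hz, hu'] at key
  rw [opX_opX, nu_one, opX, opZ, opW, dl_apply, dl_apply, map_add]
  rw [add_assoc, add_assoc, add_assoc] at key
  refine (eq_neg_of_add_eq_zero_right (?_ : q + _ = 0)).trans (vneg F q)
  rw [← key]
  abel

theorem exists_cube {a : F} (ha : a ≠ 0) {q : V} (hq : opX ρ h a q = 0) :
    ∃ v, opX ρ h a (opX ρ h a (opX ρ h a v)) = q := by
  set y := Units.mk0 a ha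
  have h1 : opX ρ h 1 (ρ (dG h y⁻¹) q) = 0 := by
    have := dG_opX ρ h y⁻¹ a q
    rw [hq, map_zero, Units.val_inv_eq_inv_val, Units.val_mk0, inv_mul_cancel₀ ha] at this
    exact this.symm
  have h2 := congrArg (ρ (dG h y)) (cube_one hf h1)
  rw [dG_opX, dG_opX, dG_opX, ← rmul _ (dG h y), ← map_mul, mul_inv_cancel, map_one, rone,
    Units.val_mk0, mul_one] at h2
  exact ⟨_, h2⟩

/-- The kernel of `tG 0 b - 1` is its image. -/
theorem exists_opZ {b : F} (hb : b ≠ 0) (hF : Fintype.card F = 2 ^ (2 * m + 1)) {v : V}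
    (hv : opZ ρ h b v = 0) : ∃ v', opZ ρ h b v' = v := by
  obtain ⟨a, ha, rfl⟩ := exists_nu hF hb
  rw [← opX_opX] at hv
  obtain ⟨w, hw⟩ := exists_cube hf ha hv
  have : opX ρ h a (v + opX ρ h a (opX ρ h a w)) = 0 := by
    rw [map_add, hw, vadd_self (F := F)]
  obtain ⟨w', hw'⟩ := exists_cube hf ha this
  refine ⟨w + opX ρ h a w', ?_⟩
  simp only [← opX_opX, map_add]
  rw [hw', add_comm v, ← add_assoc, vadd_self (F := F), zero_add]

end Fpf

/-! ### Weights and fixed vectors -/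

/-- The projection to the weight `y ↦ y ^ k`. -/
noncomputable def wproj (k : ℕ) : V →ₗ[F] V := by
  classical
  exact ∑ y : Fˣ, (((y : F) ^ k)⁻¹) • ρ (dG h y)

theorem isWt_wproj (k : ℕ) (v : V) : IsWt ρ h (fun y => y ^ k) (wproj ρ h k v) := by
  classical
  intro z
  simp only [wproj, LinearMap.sum_apply, LinearMap.smul_apply, map_sum, map_smul, Finset.smul_sum,
    smul_smul, ← rmul, ← map_mul]
  refine Fintype.sum_equiv (Equiv.mulLeft z) _ _ fun y => ?_
  have hz : (z : F) ≠ 0 := z.ne_zero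
  rw [Equiv.coe_mulLeft, Units.val_mul, mul_pow, mul_inv, mul_inv_cancel_left₀ (pow_ne_zero k hz)]

theorem card_units_smul (v : V) : (Fintype.card F - 1) • v = v := by
  have h1 : ((Fintype.card F - 1 : ℕ) : F) = 1 := by
    rw [Nat.cast_sub Fintype.card_pos, Nat.cast_card_eq_zero, zero_sub, Nat.cast_one,
      CharTwo.neg_eq]
  rw [← Nat.cast_smul_eq_nsmul F, h1, one_smul]

theorem sum_wproj (v : V) : ∑ k ∈ Finset.range (Fintype.card F - 1), wproj ρ h k v = v := by
  classical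
  simp only [wproj, LinearMap.sum_apply, LinearMap.smul_apply]
  rw [Finset.sum_comm]
  rw [Finset.sum_eq_single (1 : Fˣ)]
  · simp [rone, card_units_smul]
  · intro y _ hy
    rw [← Finset.sum_smul]
    have hy1 : (y : F)⁻¹ ≠ 1 := fun e => hy (Units.ext (by simpa using e))
    simp only [← inv_pow]
    rw [geom_sum_eq hy1, FiniteField.pow_card_sub_one_eq_one _ (inv_ne_zero y.ne_zero), sub_self,
      zero_div, zero_smul]
  · simp

theorem wproj_of_isWt {χ : F → F} {v : V} (hv : IsWt ρ h χ v) (hv0 : v ≠ 0) :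
    ∃ k, (∀ y : Fˣ, χ y = (y : F) ^ k) ∧ wproj ρ h k v = v := by
  classical
  have hex : ∃ k ∈ Finset.range (Fintype.card F - 1), wproj ρ h k v ≠ 0 := by
    by_contra hc
    push Not at hc
    exact hv0 ((sum_wproj ρ h v).symm.trans (Finset.sum_eq_zero hc))
  obtain ⟨k, -, hk⟩ := hex
  have hs : wproj ρ h k v = (∑ y : Fˣ, ((y : F) ^ k)⁻¹ * χ y) • v := by
    simp only [wproj, LinearMap.sum_apply, LinearMap.smul_apply, Finset.sum_smul]
    exact Finset.sum_congr rfl fun y _ => by rw [hv y, smul_smul]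
  have hχ : ∀ y : Fˣ, χ y = (y : F) ^ k := fun y => by
    have h2 := isWt_wproj ρ h k v y
    rw [hs, map_smul, hv y, smul_comm] at h2
    rw [hs] at hk
    exact smul_left_injective F hk h2
  refine ⟨k, hχ, ?_⟩
  rw [hs, show (∑ y : Fˣ, ((y : F) ^ k)⁻¹ * χ y) = ∑ _y : Fˣ, (1 : F) from
    Finset.sum_congr rfl fun y _ => by rw [hχ, inv_mul_cancel₀ (pow_ne_zero k y.ne_zero)],
    Finset.sum_const, Finset.card_univ, Fintype.card_units, card_units_smul, one_smul]

/-- Fixed vectors stay fixed under the torus. -/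
theorem isFix_dG {v : V} (hv : IsFix ρ h v) (y : Fˣ) : IsFix ρ h (ρ (dG h y) v) := fun a b => by
  have e : tG h a b * dG h y =
      dG h y * tG h (((y : F))⁻¹ * a) ((nu m (y : F))⁻¹ * b) := by
    rw [dG_conj', mul_inv_cancel_left₀ y.ne_zero, mul_inv_cancel_left₀ (nu_ne_zero y.ne_zero)]
  rw [← rmul, e, rmul, hv]

theorem isFix_sum {ι : Type*} (s : Finset ι) (f : ι → V) (hfx : ∀ i ∈ s, IsFix ρ h (f i)) :
    IsFix ρ h (∑ i ∈ s, f i) := fun a b => by
  rw [map_sum]; exact Finset.sum_congr rfl fun i hi => hfx i hi a b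

theorem isFix_wproj {v : V} (hv : IsFix ρ h v) (k : ℕ) : IsFix ρ h (wproj ρ h k v) := by
  classical
  intro a b
  simp only [wproj, LinearMap.sum_apply, LinearMap.smul_apply, map_sum, map_smul]
  exact Finset.sum_congr rfl fun y _ => by rw [isFix_dG ρ h hv y a b]

/-- A non-zero module has a non-zero fixed vector. -/
theorem exists_isFix [Finite V] [Nontrivial V] (P : Param F m) : ∃ v : V, v ≠ 0 ∧ IsFix ρ h v := by
  classical
  haveI : Fact (Nat.Prime 2) := ⟨Nat.prime_two⟩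
  letI : MulAction (uSub h) V :=
    { smul := fun g v => ρ g.1 v
      one_smul := fun v => rone ρ v
      mul_smul := fun g k v => rmul ρ g.1 k.1 v }
  have h2 : 2 ∣ Nat.card V := by
    obtain ⟨v, hv⟩ := exists_ne (0 : V)
    have := addOrderOf_dvd_natCard v
    rwa [addOrderOf_eq_prime (p := 2) (by rw [two_nsmul, vadd_self (F := F)]) hv] at this
  obtain ⟨v, hv, hv0⟩ := (show IsPGroup 2 (uSub h) from isPGroup_uSub P.hF)
    |>.exists_fixed_point_of_prime_dvd_card_of_fixed_point V h2 (a := (0 : V))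
      (fun g => map_zero (ρ g.1))
  exact ⟨v, fun e => hv0 e.symm, fun a b => hv ⟨tG h a b, a, b, rfl⟩⟩

/-- A non-zero module has a non-zero fixed weight vector. -/
theorem exists_isFix_isWt [Finite V] [Nontrivial V] (P : Param F m) :
    ∃ (v : V) (k : ℕ), v ≠ 0 ∧ IsFix ρ h v ∧ IsWt ρ h (fun y => y ^ k) v := by
  classical
  obtain ⟨v, hv0, hv⟩ := exists_isFix ρ h P
  obtain ⟨k, -, hk⟩ : ∃ k ∈ Finset.range (Fintype.card F - 1), wproj ρ h k v ≠ 0 := by
    by_contra hc
    push Not at hc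
    exact hv0 ((sum_wproj ρ h v).symm.trans (Finset.sum_eq_zero hc))
  exact ⟨_, k, hk, isFix_wproj ρ h hv k, isWt_wproj ρ h k v⟩

/-- The invariant subspace generated by a vector. -/
def cyc (p : V) : Submodule F V := Submodule.span F (Set.range fun g => ρ g p)

theorem mem_cyc_self (p : V) : p ∈ cyc ρ p := Submodule.subset_span ⟨1, rone ρ p⟩

theorem cyc_invariant (p : V) (g : Cfsg.Sz F m) : cyc ρ p ≤ (cyc ρ p).comap (ρ g) := by
  refine Submodule.span_le.2 ?_
  rintro _ ⟨k, rfl⟩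
  exact Submodule.subset_span ⟨g * k, rmul ρ g k p⟩

/-- Every element is triangular or lies in the big cell. -/
theorem bruhat (P : Param F m) (g : Cfsg.Sz F m) : (∃ a b s, g = tG h a b * dG h s) ∨
    ∃ a b s c d, g = tG h a b * wG h * dG h s * tG h c d := by
  have hB : ∀ g ∈ bSub F m, ∃ a b s, g = tG h a b * dG h s := fun g hg => by
    obtain ⟨a, b, s, rfl⟩ := exists_of_mem_bSub P.hm P.hF hg
    refine ⟨a, b, Units.map (th (F := F) m).toMonoidHom s, ?_⟩
    rw [dG, MonoidHom.comp_apply]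
    congr 2
    exact Units.ext ((thEquiv h).symm_apply_apply (s : F)).symm
  rcases mem_ovoid.1 (smul_mem_ovoid g.2 (mem_ovoid.2 (Or.inl rfl))) with e | ⟨x, y, e⟩
  · exact Or.inl (hB g e)
  · have hmem : (tG h x y * wG h)⁻¹ * g ∈ bSub F m := by
      show ((tG h x y * wG h)⁻¹ * g) • pInf F = pInf F
      rw [mul_smul, inv_smul_eq_iff, mul_smul]
      show g.1 • pInf F = tSL m x y • wSL F • pInf F
      rw [e, wSL_smul_inf, tSL_smul h]
      simp
    obtain ⟨a, b, s, hs⟩ := hB _ hmem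
    refine Or.inr ⟨x, y, s, (s : F)⁻¹ * a, (nu m (s : F))⁻¹ * b, ?_⟩
    rw [mul_assoc (tG h x y * wG h), dG_conj', mul_inv_cancel_left₀ s.ne_zero,
      mul_inv_cancel_left₀ (nu_ne_zero s.ne_zero), ← hs, mul_inv_cancel_left]

theorem dG_dG_opW {χ : F → F} {p : V} (hw : IsWt ρ h χ p) (s : Fˣ) :
    ρ (dG h s) (opW ρ h p) = χ (s : F)⁻¹ • opW ρ h p := opW_wt ρ h hw s

/-- A submodule containing the translates of `W p` and `p` contains the cyclic module. -/
theorem cyc_le (P : Param F m) {χ : F → F} {p : V} (hp : IsFix ρ h p) (hw : IsWt ρ h χ p)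
    {U : Submodule F V} (hpU : p ∈ U) (hU : ∀ a b, ρ (tG h a b) (opW ρ h p) ∈ U) :
    cyc ρ p ≤ U := by
  refine Submodule.span_le.2 ?_
  rintro _ ⟨g, rfl⟩
  rcases bruhat h P g with ⟨a, b, s, rfl⟩ | ⟨a, b, s, c, d, rfl⟩
  · show ρ _ p ∈ U
    rw [rmul, hw, map_smul, hp]
    exact U.smul_mem _ hpU
  · show ρ _ p ∈ U
    rw [rmul, hp, rmul, rmul, hw, map_smul, map_smul]
    exact U.smul_mem _ (hU a b)

/-- An invariant functional. -/
def IsFixF (φ : V →ₗ[F] F) : Prop := ∀ a b v, φ (ρ (tG h a b) v) = φ v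

section Weight

variable {ρ h} (hf : Fpf ρ h) (P : Param F m)
include hf P

theorem fixF_self {φ : V →ₗ[F] F} (hφ : IsFixF ρ h φ) {p : V} (hp : IsFix ρ h p) : φ p = 0 := by
  rw [← cube_one hf ((dl_eq_zero_iff ρ).2 (hp 1 0)), opX, dl_apply, map_add, hφ,
    CharTwo.add_self_eq_zero]

/-- An invariant functional killing `W p` kills the cyclic module. -/
theorem fixF_eq_zero {φ : V →ₗ[F] F} (hφ : IsFixF ρ h φ) {χ : F → F} {p : V} (hp : IsFix ρ h p)
    (hw : IsWt ρ h χ p) (h0 : φ (opW ρ h p) = 0) : cyc ρ p ≤ LinearMap.ker φ :=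
  cyc_le ρ h P hp hw (fixF_self hf P hφ hp) fun a b => by
    rw [LinearMap.mem_ker, hφ, h0]

theorem phi_inv {φ : V →ₗ[F] F} (hφ : IsFixF ρ h φ) {χ : F → F} {p : V} (hp : IsFix ρ h p)
    (hw : IsWt ρ h χ p) (g : Cfsg.Sz F m) : φ (ρ g p) = φ (ρ g⁻¹ p) := by
  rcases bruhat h P g with ⟨a, b, s, rfl⟩ | ⟨a, b, s, c, d, rfl⟩
  · rw [mul_inv_rev, tG_inv, rmul, rmul, hw, hp, map_smul, map_smul, hφ, ← map_inv, hw, map_smul,
      fixF_self hf P hφ hp]
    simp
  · rw [mul_inv_rev, mul_inv_rev, mul_inv_rev, tG_inv, tG_inv, wG_inv]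
    simp only [rmul, hp _ _, hφ _ _ _]
    rw [← map_inv, hw, map_smul, ← opW, dG_dG_opW ρ h hw]
    simp

/-- The weight of a fixed vector is a twist of the natural one. -/
theorem exists_weight [Finite V] {χ : F → F} {p : V} (hp0 : p ≠ 0) (hp : IsFix ρ h p)
    (hw : IsWt ρ h χ p) : ∃ κ : F →+* F, ∀ y : Fˣ, χ y = κ (nu m (y : F)) := by
  classical
  -- an invariant functional on the cyclic module
  let U := cyc ρ p
  let σ := ρ.subrepresentation U (cyc_invariant ρ p)
  haveI : Nontrivial U := ⟨⟨⟨p, mem_cyc_self ρ p⟩, 0, fun e => hp0 (congrArg Subtype.val e)⟩⟩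
  haveI : Nontrivial (Module.Dual F U) := by
    obtain ⟨f, hf'⟩ := Module.Projective.exists_dual_ne_zero F
      (show (⟨p, mem_cyc_self ρ p⟩ : U) ≠ 0 from fun e => hp0 (congrArg Subtype.val e))
    exact ⟨⟨f, 0, fun e => hf' (by rw [e]; rfl)⟩⟩
  haveI : Finite (Module.Dual F U) :=
    Finite.of_injective (fun f : Module.Dual F U => (f : U → F)) DFunLike.coe_injective
  obtain ⟨φ₀, hφ0, hφfix⟩ := exists_isFix σ.dual h P
  have hσ : Fpf σ h := fun v => Subtype.ext (hf v.1)
  have hφ : IsFixF σ h φ₀ := fun a b v => by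
    have := LinearMap.congr_fun (hφfix a b) (σ (tG h a b) v)
    rw [Representation.dual_apply, Module.Dual.transpose_apply, LinearMap.comp_apply, ← rmul σ,
      inv_mul_cancel, rone] at this
    exact this.symm
  set p' : U := ⟨p, mem_cyc_self ρ p⟩
  have hp' : IsFix σ h p' := fun a b => Subtype.ext (hp a b)
  have hw' : IsWt σ h χ p' := fun y => Subtype.ext (hw y)
  set φ := φ₀ with hφdef
  have he : φ (opW σ h p') ≠ 0 := fun e => hφ0 (by
    have hle := fixF_eq_zero hσ P hφ hp' hw' e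
    ext ⟨v, hv⟩
    have : cyc σ p' = ⊤ := by
      rw [eq_top_iff]
      rintro ⟨v, hv⟩ -
      have hmap : cyc ρ p ≤ (cyc σ p').map U.subtype := by
        rw [cyc, cyc, Submodule.map_span]
        refine Submodule.span_mono ?_
        rintro _ ⟨g, rfl⟩
        exact ⟨σ g p', ⟨g, rfl⟩, rfl⟩
      obtain ⟨w, hw1, hw2⟩ := hmap hv
      rwa [show w = ⟨v, hv⟩ from Subtype.ext hw2] at hw1
    exact LinearMap.mem_ker.1 (hle (this ▸ Submodule.mem_top)))
  -- the transformation of `W z W p`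
  let Y : F → F := fun b => if hb : b = 0 then 1 else
    (exists_nu P.hF (inv_ne_zero hb)).choose
  have hY0 : ∀ b, Y b ≠ 0 := fun b => by
    simp only [Y]; split_ifs with hb
    exacts [one_ne_zero, (exists_nu P.hF (inv_ne_zero hb)).choose_spec.1]
  have hY : ∀ b, b ≠ 0 → (nu m (Y b))⁻¹ = b := fun b hb => by
    simp only [Y, dif_neg hb]
    rw [(exists_nu P.hF (inv_ne_zero hb)).choose_spec.2, inv_inv]
  let γ : F → F := fun b => if b = 0 then 0 else χ (Y b)⁻¹ * χ (Y b)⁻¹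
  have hwz : ∀ b, b ≠ 0 →
      φ (σ (wG h * tG h 0 b) (opW σ h p')) = γ b * φ (opW σ h p') := fun b hb => by
    have hr := wzw h (Units.mk0 _ (hY0 b))
    rw [Units.val_mk0, hY b hb] at hr
    rw [opW, ← rmul, hr, rmul, tG_inv, hp', rmul, hφ, rmul, rmul,
      show σ (wG h) p' = opW σ h p' from rfl, dG_dG_opW σ h hw', map_smul,
      dG_dG_opW σ h hw', smul_smul, map_smul, smul_eq_mul]
    simp [γ, hb]
  have hone : γ 1 = 1 := by
    have h1 := hwz 1 one_ne_zero
    rw [opW, ← rmul, wzw_one, rmul, tG_inv, hp', rmul, hφ] at h1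
    exact mul_right_cancel₀ he (h1.symm.trans (one_mul _).symm)
  have hstep : ∀ b, γ (b + 1) = γ b + 1 := by
    intro b
    by_cases hb : b = 0
    · subst hb; simp [γ, hone]
    by_cases hb1 : b = 1
    · subst hb1; rw [CharTwo.add_self_eq_zero, hone, CharTwo.add_self_eq_zero]; simp [γ]
    have hb1' : b + 1 ≠ 0 := fun e => hb1 (by
      linear_combination e - CharTwo.two_eq_zero (R := F))
    have key := congrArg φ (fpf_expand hσ (σ (tG h 0 b) (opW σ h p')))
    simp only [map_add, map_zero] at key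
    have e1 : φ (σ (tG h 0 1 * wG h) (σ (tG h 0 b) (opW σ h p'))) = γ b * φ (opW σ h p') := by
      rw [rmul, hφ, ← rmul, hwz b hb]
    have e2 : φ (σ (wG h * tG h 0 1) (σ (tG h 0 b) (opW σ h p'))) =
        γ (b + 1) * φ (opW σ h p') := by
      rw [← rmul, mul_assoc, tG_mul, map_zero, zero_mul, add_zero, add_zero, hwz _ hb1']
    have e3 : φ (σ (tG h 0 1 * tG h 1 0 * wG h * (tG h 1 0)⁻¹) (σ (tG h 0 b) (opW σ h p'))) =
        φ (σ (tG h 1 0 * wG h * (tG h 1 0)⁻¹ * tG h 0 1) (σ (tG h 0 b) (opW σ h p'))) := by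
      simp only [rmul, hφ _ _ _]
      simp only [opW, ← rmul]
      rw [phi_inv hσ P hφ hp' hw']
      congr 2
      have eu : (tG h (1 : F) 0)⁻¹ * (tG h 0 1 * tG h 0 b) = tG h 0 b * tG h 1 0 := by
        rw [← tG_one_sq, mul_assoc, inv_mul_cancel_left, tG_zero_comm]
      simp only [mul_inv_rev, wG_inv, inv_inv, mul_assoc,
        inv_eq_of_mul_eq_one_right (tG_zero_sq h b)]
      rw [← mul_assoc (tG h 0 1), ← mul_assoc ((tG h (1 : F) 0)⁻¹), eu, mul_assoc]
    rw [e1, e2, e3, hφ, add_assoc, CharTwo.add_self_eq_zero, add_zero] at key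
    refine mul_right_cancel₀ he ?_
    linear_combination key - (γ b + 1) * φ (opW σ h p') * CharTwo.two_eq_zero (R := F)
  have hχm : ∀ y z : Fˣ, χ ((y * z : Fˣ) : F) = χ y * χ z := fun y z => by
    have h1 := hw (y * z)
    rw [map_mul, rmul, hw, map_smul, hw, smul_smul] at h1
    refine smul_left_injective F hp0 (h1.symm.trans ?_)
    rw [mul_comm]
  have hmul : ∀ a b, γ (a * b) = γ a * γ b := fun a b => by
    by_cases ha : a = 0
    · simp [γ, ha]
    by_cases hb : b = 0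
    · simp [γ, hb]
    have hab : a * b ≠ 0 := mul_ne_zero ha hb
    have eY : Y (a * b) = Y a * Y b := by
      refine congrArg Units.val (th_mul_self_injective h
        (a₁ := Units.mk0 _ (hY0 (a * b))) (a₂ := Units.mk0 _ (mul_ne_zero (hY0 a) (hY0 b))) ?_)
      show th m (Y (a * b)) * Y (a * b) = th m (Y a * Y b) * (Y a * Y b)
      rw [mul_comm, mul_comm (th m _) (Y a * Y b)]
      refine inv_injective ?_
      show (nu m _)⁻¹ = (nu m _)⁻¹
      rw [hY _ hab, nu_mul, mul_inv, hY a ha, hY b hb]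
    simp only [γ, if_neg ha, if_neg hb, if_neg hab, eY, mul_inv]
    have := hχm (Units.mk0 _ (hY0 a))⁻¹ (Units.mk0 _ (hY0 b))⁻¹
    simp only [Units.val_mul, Units.val_inv_eq_inv_val, Units.val_mk0] at this
    rw [this]; ring
  let g : F →+* F :=
    { toFun := γ
      map_zero' := by simp [γ]
      map_one' := hone
      map_mul' := hmul
      map_add' := fun a b => by
        by_cases ha : a = 0
        · subst ha; simp [γ]
        rw [show a + b = a * (b * a⁻¹ + 1) by field_simp; ring, hmul, hstep, mul_add, mul_one,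
          ← hmul, show a * (b * a⁻¹) = b by field_simp, add_comm] }
  refine ⟨((frobeniusEquiv F 2).symm : F →+* F).comp g, fun y => ?_⟩
  refine (frobeniusEquiv F 2).injective ?_
  have hv : (nu m (y : F)) ≠ 0 := nu_ne_zero y.ne_zero
  have eY : Y (nu m (y : F)) = (y : F)⁻¹ := by
    refine (congrArg Units.val (th_mul_self_injective h
      (a₁ := Units.mk0 _ (hY0 (nu m (y : F)))) (a₂ := y⁻¹) ?_)).trans
      (Units.val_inv_eq_inv_val y)
    show th m (Y _) * Y _ = th m ((y⁻¹ : Fˣ) : F) * ((y⁻¹ : Fˣ) : F)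
    rw [Units.val_inv_eq_inv_val, mul_comm, mul_comm (th m _) (y : F)⁻¹]
    refine inv_injective ?_
    show (nu m _)⁻¹ = (nu m _)⁻¹
    rw [hY _ hv, nu_inv, inv_inv]
  rw [RingHom.comp_apply, RingEquiv.coe_toRingHom, RingEquiv.apply_symm_apply,
    frobeniusEquiv_def]
  show _ = γ _
  simp only [γ, if_neg hv, eY, inv_inv]
  ring

end Weight

end CfsgLib.Suzuki.Martineau
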