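import Cfsg.Agent.Lib.Suzuki.Martineau.Semisimple

/-!
# Equivariant pairings of modules without fixed points vanish
-/

set_option autoImplicit false
set_option linter.unusedSectionVars false
set_option linter.style.haveILetI false

namespace CfsgLib.Suzuki.Martineau

variable {F : Type*} [Field F] [CharP F 2] [Fintype F] {m : ℕ}

/-- The value at `(bv 0, bv 3)` of a pairing of natural modules has no coordinate two or three. -/
theorem pair_low (P : Param F m) {κ κ' κ'' : F →+* F}
    (β : (Fin 4 → F) →ₗ[F] (Fin 4 → F) →ₗ[F] (Fin 4 → F))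
    (hβ : ∀ g : Cfsg.Sz F m, ∀ x y, β (natRep κ g x) (natRep κ' g y) = natRep κ'' g (β x y)) :
    β (bv 0) (bv 0) = 0 ∧ β (bv 0) (bv 3) 2 = 0 ∧ β (bv 0) (bv 3) 3 = 0 := by
  set v := β (bv 0) (bv 0) with hvdef
  set w := β (bv 0) (bv 3) with hwdef
  have hfix : ∀ g, natRep κ g (bv 0) = bv 0 → ∀ y,
      dl (natRep κ'') g (β (bv 0) y) = β (bv 0) (dl (natRep κ') g y) := fun g hg y => by
    rw [dl_apply, dl_apply, map_add, ← hβ, hg]
  have hv : v = v 0 • bv 0 := eq_of_isFix P.h κ'' fun a b => by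
    rw [hvdef, ← hβ, bv_isFix P.h κ a b, bv_isFix P.h κ' a b]
  have hcube : v 0 = w 3 := by
    have e : ∀ x, opX (natRep κ'') P.h 1 (β (bv 0) x) = β (bv 0) (opX (natRep κ') P.h 1 x) :=
      fun x => hfix _ (bv_isFix P.h κ 1 0) x
    have h3 : opW (natRep κ') P.h (bv 0) = bv 3 := by
      rw [natRep_opW]; funext i; fin_cases i <;> simp [bv]
    have := congrArg (β (bv 0)) (cube_one (natRep_fpf P.h κ')
      ((dl_eq_zero_iff _).2 (bv_isFix P.h κ' 1 0)))
    rw [← e, ← e, ← e, h3, ← hwdef, ← hvdef] at this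
    rw [← this]
    simp [natRep_opX]
  have hwt : ∀ (y : Fˣ) (j : Fin 4) (i : Fin 4), natWt m κ y 0 * natWt m κ' y j * β (bv 0) (bv j) i =
      natWt m κ'' y i * β (bv 0) (bv j) i := fun y j i => by
    have := congrFun (hβ (dG P.h y) (bv 0) (bv j)) i
    rw [bv_isWt P.h κ 0 y, bv_isWt P.h κ' j y, natRep_dG, map_smul, map_smul,
      LinearMap.smul_apply, Pi.smul_apply, Pi.smul_apply, smul_eq_mul, smul_eq_mul] at this
    linear_combination this
  have hv0 : v 0 = 0 := by
    by_contra hne
    have hw3 : w 3 ≠ 0 := hcube ▸ hne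
    obtain ⟨y, hy, hy1⟩ := exists_ne_one_of_nu P.hm P.hF κ
    refine hy1 ?_
    have e1 := mul_right_cancel₀ hne (hwt (Units.mk0 y hy) 0 0)
    have e2 := mul_right_cancel₀ hw3 (hwt (Units.mk0 y hy) 3 3)
    simp only [natWt, Matrix.cons_val, Units.val_mk0] at e1 e2
    have h'' : κ'' (nu m y) ≠ 0 := by simpa using nu_ne_zero (m := m) hy
    have h' : κ' (nu m y) ≠ 0 := by simpa using nu_ne_zero (m := m) hy
    field_simp at e2
    refine eq_of_sq_eq ?_
    rw [one_mul]
    refine mul_right_cancel₀ h' ?_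
    linear_combination κ (nu m y) * e1 + e2
  refine ⟨by rw [hv, hv0, zero_smul], ?_, by rw [← hcube, hv0]⟩
  by_contra hne
  -- the central elements
  have hz : ∀ b, κ'' (th m b) * w 2 = κ' (th m b) * β (bv 0) (bv 1) 0 := fun b => by
    have e := hfix _ (bv_isFix P.h κ 0 b) (bv 3)
    rw [show dl (natRep κ') (tG P.h 0 b) (bv 3) =
      κ' (th m b) • bv 1 + κ' (b ^ 2) • bv 0 by
        rw [show dl (natRep κ') (tG P.h 0 b) (bv 3) = opZ (natRep κ') P.h b (bv 3) from rfl,
          natRep_opZ]
        funext i; fin_cases i <;> simp [bv, Matrix.vecHead, Matrix.vecTail],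
      map_add, map_smul, map_smul, ← hvdef, hv, hv0, zero_smul, smul_zero, add_zero,
      ← hwdef, show dl (natRep κ'') (tG P.h 0 b) w = opZ (natRep κ'') P.h b w from rfl,
      natRep_opZ] at e
    have := congrFun e 0
    simpa [← hcube, hv0] using this
  have h1 := hz 1
  simp only [map_one, one_mul] at h1
  have hκ : κ'' = κ' := comp_th_injective P.hF (RingHom.ext fun b => by
    have := hz b
    rw [← h1] at this
    exact mul_right_cancel₀ hne this)
  refine comp_th_ne P.hm P.hF κ (prod_single (c := κ'.comp (th m)) fun y => ?_).symm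
  rcases eq_or_ne y 0 with rfl | hy
  · simp
  have e := mul_right_cancel₀ hne (hwt (Units.mk0 y hy) 3 2)
  simp only [natWt, Matrix.cons_val, Units.val_mk0, hκ, nu, map_mul] at e
  have hy' : κ' y ≠ 0 := by simpa using hy
  have hy'' : κ' (th m y) ≠ 0 := by simpa using hy
  field_simp at e
  simp only [RingHom.comp_apply]
  linear_combination e

/-- Pairings of natural modules vanish. -/
theorem natural_bilin_eq_zero (P : Param F m) {κ κ' κ'' : F →+* F}
    (β : (Fin 4 → F) →ₗ[F] (Fin 4 → F) →ₗ[F] (Fin 4 → F))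
    (hβ : ∀ g : Cfsg.Sz F m, ∀ x y, β (natRep κ g x) (natRep κ' g y) = natRep κ'' g (β x y)) :
    β = 0 := by
  obtain ⟨h00, h2, h3⟩ := pair_low P β hβ
  obtain ⟨-, h2', h3'⟩ := pair_low P β.flip (fun g x y => hβ g y x)
  have hw : ∀ x, opW (natRep κ) P.h (bv x) = bv x.rev ∧ opW (natRep κ') P.h (bv x) = bv x.rev := by
    intro x
    constructor <;> (rw [natRep_opW]; funext i; fin_cases x <;> fin_cases i <;> simp [bv])
  have h03 : β (bv 0) (bv 3) = 0 := by
    have e : β (bv 3) (bv 0) = opW (natRep κ'') P.h (β (bv 0) (bv 3)) := by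
      show _ = natRep κ'' (wG P.h) _
      rw [← hβ]
      show _ = β (opW (natRep κ) P.h (bv 0)) (opW (natRep κ') P.h (bv 3))
      rw [(hw 0).1, (hw 3).2]; rfl
    have e2 := congrFun e 2
    have e3 := congrFun e 3
    simp only [LinearMap.flip_apply] at h2' h3'
    rw [h2', natRep_opW] at e2
    rw [h3', natRep_opW] at e3
    funext i; fin_cases i
    · simpa using e3.symm
    · simpa using e2.symm
    · exact h2
    · exact h3
  have hfix : ∀ y, β (bv 0) y = 0 := fun y => by
    have hle : cyc (natRep κ') (bv 0) ≤ LinearMap.ker (β (bv 0)) :=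
      cyc_le (natRep κ') P.h P (bv_isFix P.h κ') (bv_isWt P.h κ' 0) h00 fun a b => by
        rw [LinearMap.mem_ker, (hw 0).2, show (0 : Fin 4).rev = 3 from rfl]
        conv_lhs => rw [← bv_isFix P.h κ a b]
        rw [hβ, h03, map_zero]
    have htop := natRep_top P.h κ' (fun g => cyc_invariant (natRep κ') (bv 0) g)
      (mem_cyc_self _ _)
    exact LinearMap.mem_ker.1 (hle (htop ▸ Submodule.mem_top))
  have htop := natRep_top P.h κ (U := LinearMap.ker β)
    (fun g x hx => by
      rw [Submodule.mem_comap, LinearMap.mem_ker]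
      refine LinearMap.ext fun y => ?_
      obtain ⟨z, rfl⟩ : ∃ z, natRep κ' g z = y :=
        ⟨natRep κ' g⁻¹ y, by rw [← rmul, mul_inv_cancel, rone]⟩
      rw [hβ, LinearMap.mem_ker.1 hx, LinearMap.zero_apply, map_zero, LinearMap.zero_apply])
    (LinearMap.mem_ker.2 (LinearMap.ext hfix))
  exact LinearMap.ker_eq_top.1 htop

/-- Equivariant pairings of modules without fixed points vanish. -/
theorem bilin_eq_zero (P : Param F m) {U V W : Type*} [AddCommGroup U] [Module F U] [Finite U]
    [AddCommGroup V] [Module F V] [Finite V] [AddCommGroup W] [Module F W] [Finite W]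
    {ρ : Representation F (Cfsg.Sz F m) U} {σ : Representation F (Cfsg.Sz F m) V}
    {τ : Representation F (Cfsg.Sz F m) W} (hU : Fpf ρ P.h) (hV : Fpf σ P.h) (hW : Fpf τ P.h)
    (β : U →ₗ[F] V →ₗ[F] W) (hβ : ∀ g x y, β (ρ g x) (σ g y) = τ g (β x y)) (x : U) (y : V) :
    β x y = 0 := by
  by_contra hne
  obtain ⟨κ'', f, hf, hf0⟩ := exists_proj P hW hne
  refine hf0 ?_
  have hle : Submodule.span F (natImages ρ) ≤
      LinearMap.ker ((LinearMap.llcomp F V W (Fin 4 → F) f).comp β) := by
    rw [Submodule.span_le]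
    rintro _ ⟨κ, s, hs, x', rfl⟩
    rw [SetLike.mem_coe, LinearMap.mem_ker]
    refine LinearMap.ext fun y' => ?_
    have hle' : Submodule.span F (natImages σ) ≤
        LinearMap.ker (((LinearMap.llcomp F V W (Fin 4 → F) f).comp β) (s x')) := by
      rw [Submodule.span_le]
      rintro _ ⟨κ', t, ht, z, rfl⟩
      rw [SetLike.mem_coe, LinearMap.mem_ker]
      have h0 := natural_bilin_eq_zero P (κ := κ) (κ' := κ') (κ'' := κ'')
        (((LinearMap.llcomp F (Fin 4 → F) W (Fin 4 → F) f).comp
          ((LinearMap.lcomp F W t).comp β)).comp s) fun g a b => by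
          simp only [LinearMap.comp_apply, LinearMap.llcomp_apply, LinearMap.lcomp_apply, hs, ht,
            hβ, hf]
      exact LinearMap.congr_fun (LinearMap.congr_fun h0 x') z
    exact LinearMap.mem_ker.1 (hle' (spanned P hV ▸ Submodule.mem_top))
  exact LinearMap.congr_fun (LinearMap.mem_ker.1 (hle (spanned P hU ▸ Submodule.mem_top))) y

end CfsgLib.Suzuki.Martineau
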