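import Cfsg.Agent.Lib.Suzuki.Sylow

/-!
# Products of two endomorphisms of a finite field of characteristic two

Weights of modules for the Suzuki groups are written as endomorphisms of the field; the only
arithmetic needed is that a product of two endomorphisms determines the pair.
-/

set_option autoImplicit false
set_option linter.unusedSectionVars false

namespace CfsgLib.Suzuki.Martineau

variable {F : Type*} [Field F] [CharP F 2]

/-- Squaring. -/
abbrev sq2 (F : Type*) [Field F] [CharP F 2] : F →+* F := frobenius F 2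

theorem sq2_apply (x : F) : sq2 F x = x * x := by rw [sq2, frobenius_def, pow_two]

theorem add_self (x : F) : x + x = 0 := CharTwo.add_self_eq_zero x

theorem eq_of_sq_eq {x y : F} (h : x * x = y * y) : x = y :=
  frobenius_inj F 2 (show sq2 F x = sq2 F y by rw [sq2_apply, sq2_apply, h])

/-- A product of two endomorphisms is an endomorphism only when they are equal. -/
theorem prod_single {a b c : F →+* F} (h : ∀ x, a x * b x = c x) : a = b := by
  refine RingHom.ext fun x => ?_
  have h1 := h (x + 1)
  simp only [map_add, map_one] at h1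
  linear_combination h1 - h x - b x * CharTwo.two_eq_zero (R := F)

/-- The product determines the pair. -/
theorem pair_eq {a b c d : F →+* F} (h : ∀ x, a x * b x = c x * d x) :
    (a = c ∧ b = d) ∨ (a = d ∧ b = c) := by
  have hne : ∀ {f : F →+* F} {x : F}, x ≠ 0 → f x ≠ 0 := fun {f x} hx => by simpa using hx
  have cancel : ∀ {a b d : F →+* F}, (∀ x, a x * b x = a x * d x) → b = d := fun {a b d} h =>
    RingHom.ext fun x => by
      rcases eq_or_ne x 0 with rfl | hx
      · simp
      · exact mul_left_cancel₀ (hne hx) (h x)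
  have sum1 : ∀ x, a x + b x = c x + d x := fun x => by
    have h1 := h (x + 1)
    simp only [map_add, map_one] at h1
    linear_combination h1 - h x
  by_cases hab : a = b
  · subst hab
    have hcd : c = d := RingHom.ext fun x => by
      have h1 := sum1 x
      rw [add_self] at h1
      linear_combination -h1 - d x * CharTwo.two_eq_zero (R := F)
    subst hcd
    have : a = c := RingHom.ext fun x => eq_of_sq_eq (h x)
    exact Or.inl ⟨this, this⟩
  by_cases hac : a = c
  · subst hac; exact Or.inl ⟨rfl, cancel h⟩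
  by_cases had : a = d
  · subst had
    exact Or.inr ⟨rfl, cancel fun x => (h x).trans (mul_comm _ _)⟩
  exfalso
  classical
  have hli := linearIndependent_monoidHom F F
  set S : Finset (F →* F) := {(b : F →* F), (c : F →* F), (d : F →* F)}
  have hmem : ((a : F →* F) : F → F) ∈
      Submodule.span F ((fun f : F →* F => (f : F → F)) '' (S : Set (F →* F))) := by
    have e : ((a : F →* F) : F → F) = (1 : F) • ((b : F →* F) : F → F) +
        (1 : F) • ((c : F →* F) : F → F) + (1 : F) • ((d : F →* F) : F → F) := by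
      funext x
      simp only [Pi.add_apply, Pi.smul_apply, smul_eq_mul, one_mul]
      show a x = b x + c x + d x
      linear_combination sum1 x - b x * CharTwo.two_eq_zero (R := F)
    rw [e]
    refine add_mem (add_mem ?_ ?_) ?_ <;>
      refine Submodule.smul_mem _ _ (Submodule.subset_span ⟨_, ?_, rfl⟩) <;> simp [S]
  have hnot : (a : F →* F) ∉ (S : Set (F →* F)) := by
    have inj : ∀ f : F →+* F, (a : F →* F) = (f : F →* F) → a = f := fun f e =>
      RingHom.ext fun x => DFunLike.congr_fun e x
    simp only [S, Finset.coe_insert, Finset.coe_singleton, Set.mem_insert_iff,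
      Set.mem_singleton_iff, not_or]
    exact ⟨fun e => hab (inj b e), fun e => hac (inj c e), fun e => had (inj d e)⟩
  exact hnot (by
    by_contra hc
    exact hli.notMem_span_image hc hmem)

/-- An additive function on the field transformed by a character under scaling. -/
theorem homog [Finite F] {M : Type*} [AddCommGroup M] [Module F M] (f : F → M) (χ : F → F)
    (hadd : ∀ a b, f (a + b) = f a + f b) (hχ : ∀ y a, y ≠ 0 → f (y * a) = χ y • f a) :
    ∃ ξ : F →+* F, (f 1 ≠ 0 → ∀ y, y ≠ 0 → ξ y = χ y) ∧ ∀ a, f a = ξ a • f 1 := by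
  have h0 : f 0 = 0 := by
    have := hadd 0 0
    rwa [add_zero, left_eq_add] at this
  have hf : ∀ a, a ≠ 0 → f a = χ a • f 1 := fun a ha => by
    have := hχ a 1 ha
    rwa [mul_one] at this
  by_cases h1 : f 1 = 0
  · refine ⟨RingHom.id F, fun h => absurd h1 h, fun a => ?_⟩
    rw [h1, smul_zero]
    rcases eq_or_ne a 0 with rfl | ha
    · exact h0
    · rw [hf a ha, h1, smul_zero]
  classical
  let g : F → F := fun a => if a = 0 then 0 else χ a
  have hg : ∀ a, f a = g a • f 1 := fun a => by
    rcases eq_or_ne a 0 with rfl | ha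
    · simp [g, h0]
    · simp only [g, if_neg ha]; exact hf a ha
  have inj : ∀ r s : F, r • f 1 = s • f 1 → r = s := fun r s e => by
    by_contra hrs
    have e' : (r - s) • f 1 = 0 := by rw [sub_smul, e, sub_self]
    exact h1 ((smul_eq_zero.1 e').resolve_left (sub_ne_zero.2 hrs))
  let ξ : F →+* F :=
    { toFun := g
      map_zero' := by simp [g]
      map_one' := inj _ _ (by rw [← hg, one_smul])
      map_add' := fun a b => inj _ _ (by rw [← hg, hadd, hg a, hg b, add_smul])
      map_mul' := fun a b => inj _ _ (by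
        rcases eq_or_ne a 0 with rfl | ha
        · simp [g]
        rw [← hg, hχ a b ha, hg b, smul_smul]
        simp [g, ha]) }
  exact ⟨ξ, fun _ y hy => by show g y = χ y; simp [g, hy], fun a => hg a⟩

/-- Two terms cancelling on the diagonal cancel everywhere unless the endomorphisms cross. -/
theorem two_terms {A B C D : F →+* F} {x y : F}
    (hx : B = C → x ≠ 0 → y ≠ 0 → False)
    (h : ∀ a, x * (A a * B a) + y * (C a * D a) = 0) (a b : F) :
    x * (A a * B b) + y * (C a * D b) = 0 := by
  have h1 := h 1
  simp only [map_one, mul_one] at h1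
  obtain rfl : y = x := by linear_combination h1 - x * CharTwo.two_eq_zero (R := F)
  by_cases hy : y = 0
  · rw [hy]; ring
  have hp : ∀ a, A a * B a = C a * D a := fun a => by
    refine mul_left_cancel₀ hy ?_
    linear_combination h a - y * (C a * D a) * CharTwo.two_eq_zero (R := F)
  rcases pair_eq hp with ⟨rfl, rfl⟩ | ⟨-, e⟩
  · exact add_self _
  · exact (hx e hy hy).elim

section Suz

variable [Fintype F] {m : ℕ}

theorem exists_ne01 (hm : 1 ≤ m) (hF : Fintype.card F = 2 ^ (2 * m + 1)) :
    ∃ a : F, a ≠ 0 ∧ a ≠ 1 := exists_ne_zero_one hm hF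

theorem comp_th_ne (hm : 1 ≤ m) (hF : Fintype.card F = 2 ^ (2 * m + 1)) (κ : F →+* F) :
    κ.comp (th m) ≠ κ := fun e => by
  obtain ⟨a, h0, h1⟩ := exists_ne01 hm hF
  rcases th_eq_self (thSq_of_card hF) (κ.injective (RingHom.congr_fun e a)) with h | h
  exacts [h0 h, h1 h]

theorem sq_comp_ne (hm : 1 ≤ m) (hF : Fintype.card F = 2 ^ (2 * m + 1)) (κ : F →+* F) :
    (sq2 F).comp κ ≠ κ := fun e => by
  obtain ⟨a, h0, h1⟩ := exists_ne01 hm hF
  have h := RingHom.congr_fun e a
  rw [RingHom.comp_apply, sq2_apply] at h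
  rcases mul_eq_zero.1 (show κ a * (κ a - 1) = 0 by linear_combination h) with h' | h'
  · exact h0 (by simpa using h')
  · exact h1 (κ.injective (by rw [map_one]; exact sub_eq_zero.1 h'))

theorem comp_th_injective (hF : Fintype.card F = 2 ^ (2 * m + 1)) {κ κ' : F →+* F}
    (e : κ.comp (th m) = κ'.comp (th m)) : κ = κ' :=
  RingHom.ext fun x => by
    obtain ⟨y, rfl⟩ := th_surjective (thSq_of_card hF) x
    exact RingHom.congr_fun e y

/-- The scaling of the centre. -/
def nu (m : ℕ) (y : F) : F := y * th m y

theorem nu_mul (y z : F) : nu m (y * z) = nu m y * nu m z := by simp only [nu, map_mul]; ring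

theorem nu_one : nu m (1 : F) = 1 := by simp [nu]

theorem nu_ne_zero {y : F} (hy : y ≠ 0) : nu m y ≠ 0 := mul_ne_zero hy (by simpa using hy)

theorem nu_inv (y : F) : nu m y⁻¹ = (nu m y)⁻¹ := by simp [nu, map_inv₀, mul_comm]

theorem exists_nu (hF : Fintype.card F = 2 ^ (2 * m + 1)) {b : F} (hb : b ≠ 0) :
    ∃ y : F, y ≠ 0 ∧ nu m y = b := by
  obtain ⟨s, hs⟩ := exists_th_mul_self (thSq_of_card hF) hb
  exact ⟨s, s.ne_zero, by rw [nu, mul_comm]; exact hs⟩

theorem eq_of_nu (hF : Fintype.card F = 2 ^ (2 * m + 1)) {f g : F →+* F}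
    (h : ∀ y, y ≠ 0 → f (nu m y) = g (nu m y)) : f = g :=
  RingHom.ext fun b => by
    rcases eq_or_ne b 0 with rfl | hb
    · simp
    · obtain ⟨y, hy, rfl⟩ := exists_nu hF hb
      exact h y hy

theorem exists_ne_one_of_nu (hm : 1 ≤ m) (hF : Fintype.card F = 2 ^ (2 * m + 1)) (κ : F →+* F) :
    ∃ y : F, y ≠ 0 ∧ κ (nu m y) ≠ 1 := by
  obtain ⟨a, h0, h1⟩ := exists_ne01 hm hF
  obtain ⟨y, hy, e⟩ := exists_nu hF h0
  exact ⟨y, hy, fun h => h1 (by rw [← e]; exact κ.injective (h.trans (map_one κ).symm))⟩

end Suz

end CfsgLib.Suzuki.Martineau
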