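import Cfsg.Agent.Lib.Suzuki.Martineau.Natural

/-!
# Fixed vectors of an extension of one natural module by another lift
-/

set_option autoImplicit false
set_option linter.unusedSectionVars false

namespace CfsgLib.Suzuki.Martineau

variable {F : Type*} [Field F] [CharP F 2] [Fintype F] {m : ℕ}

/-- `homog` for scaling by `nu`. -/
theorem homog_nu (hF : Fintype.card F = 2 ^ (2 * m + 1)) (f : F → F) (χ : F → F)
    (hadd : ∀ a b, f (a + b) = f a + f b)
    (hχ : ∀ y a, y ≠ 0 → f (nu m y * a) = χ y * f a) :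
    ∃ ξ : F →+* F, (f 1 ≠ 0 → ∀ y, y ≠ 0 → ξ (nu m y) = χ y) ∧ ∀ a, f a = ξ a * f 1 := by
  classical
  let inv : F → F := fun c => if hc : c = 0 then 1 else (exists_nu hF hc).choose
  have hinv : ∀ c, c ≠ 0 → inv c ≠ 0 ∧ nu m (inv c) = c := fun c hc => by
    simp only [inv, dif_neg hc]; exact (exists_nu hF hc).choose_spec
  obtain ⟨ξ, h1, h2⟩ := homog f (fun c => χ (inv c)) hadd fun c a hc => by
    have := hχ (inv c) a (hinv c hc).1
    rw [(hinv c hc).2] at this
    exact this
  refine ⟨ξ, fun hf y hy => ?_, h2⟩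
  rw [h1 hf _ (nu_ne_zero hy)]
  obtain ⟨hy', e⟩ := hinv _ (nu_ne_zero (m := m) hy)
  have : inv (nu m y) = y := congrArg Units.val (th_mul_self_injective (thSq_of_card hF)
    (a₁ := Units.mk0 _ hy') (a₂ := Units.mk0 _ hy) (by
      show th m (inv (nu m y)) * inv (nu m y) = th m y * y
      rw [mul_comm, mul_comm (th m y)]; exact e))
  rw [this]

/-- Two endomorphisms never multiply to one. -/
theorem mul_ne_one (P : Param F m) (κ κ' : F →+* F) : ∃ b : F, b ≠ 0 ∧ κ b * κ' b ≠ 1 := by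
  by_contra hc
  push Not at hc
  obtain ⟨z, hz0, hz1⟩ := exists_ne01 P.hm P.hF
  have key : ∀ x : F, x ≠ 0 → x ≠ 1 → x * x + x + 1 = 0 := by
    intro x hx0 hx1
    obtain ⟨b, rfl⟩ : ∃ b, κ b = x := Finite.surjective_of_injective κ.injective x
    have hb0 : b ≠ 0 := fun e => hx0 (by rw [e, map_zero])
    have hb1 : b + 1 ≠ 0 := fun e => hx1 (by
      rw [show b = 1 by linear_combination e - CharTwo.two_eq_zero (R := F), map_one])
    have h1 := hc b hb0
    have h2 := hc (b + 1) hb1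
    rw [map_add, map_add, map_one, map_one] at h2
    linear_combination κ b * h2 - (κ b + 1) * h1
  have h1 := key z hz0 hz1
  have h2 := key (th m z) (by simpa using hz0) fun e => hz1 ((th m).injective (by rw [e, map_one]))
  have h3 : (th m z + z) * (th m z + z + 1) = 0 := by
    linear_combination h1 + h2 + (th m z * z - 1) * CharTwo.two_eq_zero (R := F)
  rcases mul_eq_zero.1 h3 with e | e
  · rcases th_eq_self P.h (show th m z = z by
      linear_combination e - z * CharTwo.two_eq_zero (R := F)) with h' | h'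
    exacts [hz0 h', hz1 h']
  · have e1 : th m z = z + 1 := by
      linear_combination e - (z + 1) * CharTwo.two_eq_zero (R := F)
    have e2 := P.h z
    rw [e1, map_add, map_one, e1] at e2
    exact one_ne_zero (α := F) (by
      linear_combination h1 + e2 - (z + 1) * CharTwo.two_eq_zero (R := F))

variable {V : Type*} [AddCommGroup V] [Module F V] {ρ : Representation F (Cfsg.Sz F m) V}

/-- An extension of one natural module by another. -/
structure IsExt (P : Param F m) (ρ : Representation F (Cfsg.Sz F m) V) (κ κ' : F →+* F)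
    (ι : (Fin 4 → F) →ₗ[F] V) (π : V →ₗ[F] (Fin 4 → F)) : Prop where
  fpf : Fpf ρ P.h
  ι_comm : ∀ g x, ι (natRep κ g x) = ρ g (ι x)
  π_comm : ∀ g v, π (ρ g v) = natRep κ' g (π v)
  inj : Function.Injective ι
  surj : Function.Surjective π
  exact_ : ∀ v, π v = 0 → ∃ x, ι x = v
  zero : ∀ x, π (ι x) = 0

namespace IsExt

variable {P : Param F m} {κ κ' : F →+* F} {ι : (Fin 4 → F) →ₗ[F] V} {π : V →ₗ[F] (Fin 4 → F)}
  (E : IsExt P ρ κ κ' ι π)
include E

theorem ι_dl (g : Cfsg.Sz F m) (x : Fin 4 → F) : ι (dl (natRep κ) g x) = dl ρ g (ι x) := by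
  rw [dl_apply, dl_apply, map_add, E.ι_comm]

theorem π_dl (g : Cfsg.Sz F m) (v : V) : π (dl ρ g v) = dl (natRep κ') g (π v) := by
  rw [dl_apply, dl_apply, map_add, E.π_comm]

theorem ιX (a : F) (x : Fin 4 → F) :
    opX ρ P.h a (ι x) = ι (opX (natRep κ) P.h a x) := (E.ι_dl _ x).symm

theorem ιZ (b : F) (x : Fin 4 → F) :
    opZ ρ P.h b (ι x) = ι (opZ (natRep κ) P.h b x) := (E.ι_dl _ x).symm

theorem πX (a : F) (v : V) : π (opX ρ P.h a v) = opX (natRep κ') P.h a (π v) := E.π_dl _ v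

theorem πZ (b : F) (v : V) : π (opZ ρ P.h b v) = opZ (natRep κ') P.h b (π v) := E.π_dl _ v

theorem π_wproj (k : ℕ) (v : V) :
    π (wproj ρ P.h k v) = wproj (natRep κ') P.h k (π v) := by
  simp only [wproj, LinearMap.sum_apply, LinearMap.smul_apply, map_sum, map_smul, E.π_comm]

/-- A coordinate vector killed by a central element. -/
theorem coords_of_killed {b : F} (hb : b ≠ 0) {x : Fin 4 → F}
    (hx : opZ ρ P.h b (ι x) = 0) : x 2 = 0 ∧ x 3 = 0 := by
  rw [E.ιZ, ← map_zero ι] at hx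
  have h := E.inj hx
  rw [natRep_opZ] at h
  have h1 := congrFun h 1
  have h0 := congrFun h 0
  have hne : κ (th m b) ≠ 0 := by simpa using hb
  simp only [Matrix.cons_val, Pi.zero_apply, mul_eq_zero, hne, false_or] at h1
  simp only [Matrix.cons_val, Pi.zero_apply, h1, mul_zero, add_zero, mul_eq_zero, hne,
    false_or] at h0
  exact ⟨h0, h1⟩

theorem killed_of_coords (b : F) {x : Fin 4 → F} (h2 : x 2 = 0) (h3 : x 3 = 0) :
    opZ ρ P.h b (ι x) = 0 := by
  rw [E.ιZ, natRep_opZ, h2, h3, show (![κ (th m b) * 0 + κ (b ^ 2) * 0, κ (th m b) * 0, 0, 0] :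
    Fin 4 → F) = 0 by funext i; fin_cases i <;> simp, map_zero]

theorem wt_ι {y : Fˣ} {c : F} {x x' : Fin 4 → F} (h : c • ι x' = ρ (dG P.h y) (ι x)) (i : Fin 4) :
    c * x' i = natWt m κ y i * x i := by
  rw [← E.ι_comm, ← map_smul] at h
  have := congrFun (E.inj h) i
  rwa [natRep_dG, Pi.smul_apply, smul_eq_mul] at this

theorem exists_lift {χ : F → F} {x : Fin 4 → F} (hx : IsWt (natRep κ') P.h χ x) (hx0 : x ≠ 0)
    (S : V → Prop) (hS : ∃ v, S v ∧ π v = x) (hSp : ∀ k v, S v → S (wproj ρ P.h k v)) :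
    ∃ v, S v ∧ π v = x ∧ IsWt ρ P.h χ v := by
  obtain ⟨v, hv, rfl⟩ := hS
  obtain ⟨k, hk, hk'⟩ := wproj_of_isWt (natRep κ') P.h hx hx0
  refine ⟨_, hSp k v hv, by rw [E.π_wproj, hk'], fun y => ?_⟩
  rw [hk y]
  exact isWt_wproj ρ P.h k v y

theorem lift_wt {χ : F → F} {x : Fin 4 → F} (hx : IsWt (natRep κ') P.h χ x) (hx0 : x ≠ 0) :
    ∃ v, π v = x ∧ IsWt ρ P.h χ v := by
  obtain ⟨v, hv⟩ := E.surj x
  obtain ⟨w, -, h1, h2⟩ := E.exists_lift hx hx0 (fun _ => True) ⟨v, trivial, hv⟩ fun _ _ _ => trivial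
  exact ⟨w, h1, h2⟩

/-- Products of two central operators kill the preimage of the fixed part. -/
theorem zz_of_low (a b : F) {v : V} (h2 : π v 2 = 0) (h3 : π v 3 = 0) :
    opZ ρ P.h a (opZ ρ P.h b v) = 0 := by
  rcases eq_or_ne b 0 with rfl | hb
  · rw [opZ_zero, map_zero]
  obtain ⟨x, hx⟩ := E.exact_ (opZ ρ P.h b v) (by rw [E.πZ, natRep_opZ, h2, h3]; simp)
  obtain ⟨e2, e3⟩ := E.coords_of_killed hb (x := x) (by rw [hx, opZ_opZ_self])
  rw [← hx, E.killed_of_coords a e2 e3]

/-- The central subgroup acts quadratically. -/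
theorem quadratic (a b : F) (v : V) : opZ ρ P.h a (opZ ρ P.h b v) = 0 := by
  obtain ⟨hm, hF⟩ := P
  set h := thSq_of_card hF
  let P : Param F m := ⟨hm, hF⟩
  have hne : ∀ i : Fin 4, (bv i : Fin 4 → F) ≠ 0 := fun i e => by
    simpa [bv] using congrFun e i
  obtain ⟨p, hp, hpw⟩ := E.lift_wt (bv_isWt P.h κ' 0) (hne 0)
  obtain ⟨w, hw, hww⟩ := E.lift_wt (bv_isWt P.h κ' 1) (hne 1)
  -- `X p` and `Z p`
  have hXp : ∀ a, ∃ x, ι x = opX ρ P.h a p := fun a => E.exact_ _ (by
    rw [E.πX, hp, natRep_opX]; simp [bv])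
  choose xa hxa using hXp
  have hZp : ∀ b, ∃ x, ι x = opZ ρ P.h b p := fun b => E.exact_ _ (by
    rw [E.πZ, hp, natRep_opZ]; simp [bv])
  choose xz hxz using hZp
  have hxa3 : ∀ a, xa a 3 = 0 := fun a => by
    rcases eq_or_ne a 0 with rfl | ha
    · have : xa 0 = 0 := E.inj (by rw [hxa, opX_zero, map_zero])
      rw [this]; rfl
    obtain ⟨x, hx⟩ := exists_cube (natRep_fpf P.h κ') ha (q := bv 0)
      ((dl_eq_zero_iff _).2 (bv_isFix P.h κ' a 0))
    obtain ⟨u, hu⟩ := E.surj x
    set q := opX ρ P.h a (opX ρ P.h a (opX ρ P.h a u))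
    have hq : opX ρ P.h a q = 0 := by
      simp only [q]
      rw [opX_opX, opX_opX, opZ_opZ_self]
    obtain ⟨d, hd⟩ := E.exact_ (p + q) (by
      rw [map_add, hp, E.πX, E.πX, E.πX, hu, hx, vadd_self F])
    have e : ι (xa a) = ι (opX (natRep κ) P.h a d) := by
      rw [← E.ιX, hd, map_add, hq, add_zero, hxa]
    rw [E.inj e, natRep_opX]; simp
  have hxz23 : ∀ b, xz b 2 = 0 ∧ xz b 3 = 0 := fun b => by
    rcases eq_or_ne b 0 with rfl | hb
    · have : xz 0 = 0 := E.inj (by rw [hxz, opZ_zero, map_zero])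
      rw [this]; exact ⟨rfl, rfl⟩
    exact E.coords_of_killed hb (by rw [hxz, opZ_opZ_self])
  have hcent : ∀ a d, κ (th m d) * xa a 2 = κ (th m a) * xz d 1 := fun a d => by
    have e := opZ_opX_comm ρ P.h d a p
    rw [← hxa, ← hxz, E.ιZ, E.ιX] at e
    have := congrFun (E.inj e) 0
    rw [natRep_opZ, natRep_opX] at this
    simpa [hxa3 a, (hxz23 d).1, (hxz23 d).2] using this
  have hτ : xz 1 1 = 0 := by
    by_contra hτ
    obtain ⟨b, hb, hbne⟩ := mul_ne_one P κ κ'
    obtain ⟨y, hy, rfl⟩ := exists_nu P.hF hb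
    refine hbne ?_
    have e1 := hcent 1 1
    have e2 := hcent y 1
    simp only [map_one, one_mul] at e1 e2
    have hs := E.wt_ι (y := Units.mk0 y hy) (c := natWt m κ' y 0) (x := xa 1) (x' := xa y) (by
      rw [hxa, hxa, dG_opX, hpw, map_smul, Units.val_mk0, mul_one]) 2
    rw [e1, e2] at hs
    simp only [natWt, Matrix.cons_val, Units.val_mk0, ← mul_assoc] at hs
    have := mul_right_cancel₀ hτ hs
    have hy1 : κ y ≠ 0 := by simpa using hy
    rw [← mul_inv_eq_one₀ (inv_ne_zero hy1), inv_inv] at this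
    rw [← this]
    simp [nu]
    ring
  have hxz1 : ∀ d, xz d 1 = 0 := fun d => by
    have e1 := hcent 1 1
    have e := hcent 1 d
    simp only [map_one, one_mul] at e1 e
    rw [e1, hτ, mul_zero] at e
    exact e.symm
  -- lifts of the upper part
  set n := opW ρ P.h w
  set e := opW ρ P.h p
  have hn : π n = bv 2 := by
    rw [show π n = opW (natRep κ') P.h (π w) from E.π_comm _ _, hw, natRep_opW]
    funext i; fin_cases i <;> simp [bv]
  have he : π e = bv 3 := by
    rw [show π e = opW (natRep κ') P.h (π p) from E.π_comm _ _, hp, natRep_opW]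
    funext i; fin_cases i <;> simp [bv]
  have hZw : ∀ b, ∃ x, ι x = opZ ρ P.h b w := fun b => E.exact_ _ (by
    rw [E.πZ, hw, natRep_opZ]; simp [bv])
  choose xw hxw using hZw
  have hxw23 : ∀ b, xw b 2 = 0 ∧ xw b 3 = 0 := fun b => by
    rcases eq_or_ne b 0 with rfl | hb
    · have : xw 0 = 0 := E.inj (by rw [hxw, opZ_zero, map_zero])
      rw [this]; exact ⟨rfl, rfl⟩
    exact E.coords_of_killed hb (by rw [hxw, opZ_opZ_self])
  have hZn : ∀ b, ∃ x, ι x = opZ ρ P.h b n + κ' (th m b) • p := fun b => E.exact_ _ (by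
    rw [map_add, E.πZ, hn, natRep_opZ, map_smul, hp]
    funext i; fin_cases i <;> simp [bv, Matrix.vecHead, Matrix.vecTail, CharTwo.add_self_eq_zero])
  choose xn hxn using hZn
  have hZe : ∀ b, ∃ x, ι x = opZ ρ P.h b e + κ' (th m b) • w + κ' (b ^ 2) • p :=
    fun b => E.exact_ _ (by
      rw [map_add, map_add, E.πZ, he, natRep_opZ, map_smul, map_smul, hp, hw]
      funext i; fin_cases i <;> simp [bv, Matrix.vecHead, Matrix.vecTail, CharTwo.add_self_eq_zero])
  choose xe hxe using hZe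
  have hn' : ∀ b, opZ ρ P.h b n = ι (xn b) + κ' (th m b) • p := fun b => by
    rw [hxn, add_assoc, vadd_self F, add_zero]
  have he' : ∀ b, opZ ρ P.h b e = ι (xe b) + κ' (th m b) • w + κ' (b ^ 2) • p := fun b => by
    rw [hxe, show opZ ρ P.h b e + κ' (th m b) • w + κ' (b ^ 2) • p + κ' (th m b) • w +
      κ' (b ^ 2) • p = opZ ρ P.h b e + ((κ' (th m b) • w + κ' (th m b) • w) +
      (κ' (b ^ 2) • p + κ' (b ^ 2) • p)) by abel, vadd_self F, vadd_self F, add_zero, add_zero]
  -- the two products, in coordinates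
  have hΦn : ∀ a b, opZ ρ P.h a (opZ ρ P.h b n) =
      ι (opZ (natRep κ) P.h a (xn b) + κ' (th m b) • xz a) := fun a b => by
    rw [hn', map_add, map_smul, E.ιZ, ← hxz, map_add, map_smul]
  have hΦe : ∀ a b, opZ ρ P.h a (opZ ρ P.h b e) =
      ι (opZ (natRep κ) P.h a (xe b) + κ' (th m b) • xw a + κ' (b ^ 2) • xz a) := fun a b => by
    rw [he', map_add, map_add, map_smul, map_smul, E.ιZ, ← hxz, ← hxw, map_add, map_add,
      map_smul, map_smul]
  have hxn3 : ∀ b, xn b 3 = 0 := fun b => by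
    rcases eq_or_ne b 0 with rfl | hb
    · have : xn 0 = 0 := E.inj (by simp [hxn, opZ_zero])
      rw [this]; rfl
    have e1 : ι (opZ (natRep κ) P.h b (xn b) + κ' (th m b) • xz b) = ι 0 := by
      rw [← hΦn, opZ_opZ_self, map_zero]
    have := congrFun (E.inj e1) 1
    simp [Matrix.vecHead, Matrix.vecTail, natRep_opZ, hxz1 b, hb] at this
    exact this
  -- additivity
  have hxzadd : ∀ b c, xz (b + c) = xz b + xz c := fun b c => E.inj (by
    rw [map_add, hxz, hxz, hxz, opZ_add,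
      E.zz_of_low b c (by rw [hp]; simp [bv]) (by rw [hp]; simp [bv]), add_zero])
  have hxwadd : ∀ b c, xw (b + c) = xw b + xw c := fun b c => E.inj (by
    rw [map_add, hxw, hxw, hxw, opZ_add,
      E.zz_of_low b c (by rw [hw]; simp [bv]) (by rw [hw]; simp [bv]), add_zero])
  have hxnadd : ∀ b c, xn (b + c) = xn b + xn c +
      (opZ (natRep κ) P.h b (xn c) + κ' (th m c) • xz b) := fun b c => E.inj (by
    rw [map_add ι, map_add ι, ← hΦn, hxn, hxn, hxn, opZ_add, map_add, map_add, add_smul]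
    abel)
  have hxeadd : ∀ b c, xe (b + c) = xe b + xe c +
      (opZ (natRep κ) P.h b (xe c) + κ' (th m c) • xw b + κ' (c ^ 2) • xz b) := fun b c => E.inj (by
    rw [map_add ι, map_add ι, ← hΦe, hxe, hxe, hxe, opZ_add,
      show (b + c) ^ 2 = b ^ 2 + c ^ 2 from by
        linear_combination (b * c) * CharTwo.two_eq_zero (R := F),
      map_add, map_add, map_add, add_smul, add_smul]
    abel)
  -- weights
  have hη : ∀ y a, y ≠ 0 → xz (nu m y * a) 0 = κ (nu m y) / κ' (nu m y) * xz a 0 := by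
    intro y a hy
    have hs := E.wt_ι (y := Units.mk0 y hy) (c := natWt m κ' y 0) (x := xz a)
      (x' := xz (nu m y * a)) (by
        rw [hxz, hxz, dG_opZ, hpw, map_smul, Units.val_mk0]) 0
    simp only [natWt, Matrix.cons_val, Units.val_mk0] at hs
    rw [div_mul_eq_mul_div, ← hs, mul_div_cancel_left₀ _ (by simpa using nu_ne_zero (m := m) hy)]
  have hψ : ∀ (i : Fin 4) y a, y ≠ 0 →
      xw (nu m y * a) i = natWt m κ y i / κ' y * xw a i := by
    intro i y a hy
    have hs := E.wt_ι (y := Units.mk0 y hy) (c := natWt m κ' y 1) (x := xw a)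
      (x' := xw (nu m y * a)) (by
        rw [hxw, hxw, dG_opZ, hww, map_smul, Units.val_mk0]) i
    simp only [natWt, Matrix.cons_val, Units.val_mk0] at hs ⊢
    rw [div_mul_eq_mul_div, ← hs, mul_div_cancel_left₀ _ (by simpa using hy)]
  have hnw : IsWt ρ P.h (fun y => (κ' y)⁻¹) n := fun y => by
    rw [opW_wt ρ P.h hww y]; simp [natWt, n]
  have hew : IsWt ρ P.h (fun y => (κ' (nu m y))⁻¹) e := fun y => by
    rw [opW_wt ρ P.h hpw y]; simp [natWt, nu_inv, e]
  have hαn' : ∀ y a, y ≠ 0 → xn (nu m y * a) 2 = κ' y / κ y * xn a 2 := by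
    intro y a hy
    have hy1 : κ' y ≠ 0 := by simpa using hy
    have hs := E.wt_ι (y := Units.mk0 y hy) (c := (κ' y)⁻¹) (x := xn a)
      (x' := xn (nu m y * a)) (by
        rw [hxn, hxn, map_add, map_smul, dG_opZ, hnw, hpw, map_smul, Units.val_mk0, smul_add,
          smul_smul, smul_smul]
        congr 2
        simp only [natWt, Matrix.cons_val, map_mul, nu, P.h y, map_pow]
        field_simp) 2
    simp only [natWt, Matrix.cons_val, Units.val_mk0] at hs
    have hy2 : κ y ≠ 0 := by simpa using hy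
    field_simp at hs ⊢
    linear_combination hs
  have hαe : ∀ (i : Fin 4) y a, y ≠ 0 →
      xe (nu m y * a) i = κ' (nu m y) * natWt m κ y i * xe a i := by
    intro i y a hy
    have hy1 : κ' y ≠ 0 := by simpa using hy
    have hy3 : κ' (th m y) ≠ 0 := by simpa using hy
    have hy2 : κ' (nu m y) ≠ 0 := by simpa using nu_ne_zero (m := m) hy
    have hs := E.wt_ι (y := Units.mk0 y hy) (c := (κ' (nu m y))⁻¹) (x := xe a)
      (x' := xe (nu m y * a)) (by
        rw [hxe, hxe, map_add, map_add, map_smul, map_smul, dG_opZ, hew, hpw, hww, map_smul,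
          Units.val_mk0, smul_add, smul_add, smul_smul, smul_smul, smul_smul, smul_smul]
        congr 2
        · congr 1
          simp only [natWt, Matrix.cons_val, map_mul, nu, P.h y, map_pow]
          field_simp
        · simp only [natWt, Matrix.cons_val, map_mul, nu, map_pow]
          field_simp) i
    simp only [Units.val_mk0] at hs
    rw [inv_mul_eq_iff_eq_mul₀ hy2] at hs
    rw [hs, mul_assoc]
  -- the endomorphisms
  obtain ⟨ξη, hξη, hfη⟩ := homog_nu P.hF (fun a => xz a 0) _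
    (fun a b => by simp [hxzadd]) hη
  obtain ⟨ξm, hξm, hfm⟩ := homog_nu P.hF (fun a => xw a 1) _
    (fun a b => by simp [hxwadd]) (hψ 1)
  obtain ⟨ξv, hξv, hfv⟩ := homog_nu P.hF (fun a => xw a 0) _
    (fun a b => by simp [hxwadd]) (hψ 0)
  obtain ⟨ξn, hξn, hfn⟩ := homog_nu P.hF (fun a => xn a 2) _
    (fun a b => by simp [hxnadd, Matrix.vecHead, Matrix.vecTail, natRep_opZ, (hxz23 a).1]) hαn'
  obtain ⟨ξe3, hξe3, hfe3⟩ := homog_nu P.hF (fun a => xe a 3) _
    (fun a b => by simp [hxeadd, Matrix.vecHead, Matrix.vecTail, natRep_opZ, (hxz23 a).2, (hxw23 a).2]) (hαe 3)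
  obtain ⟨ξe2, hξe2, hfe2⟩ := homog_nu P.hF (fun a => xe a 2) _
    (fun a b => by simp [hxeadd, Matrix.vecHead, Matrix.vecTail, natRep_opZ, (hxz23 a).1, (hxw23 a).1]) (hαe 2)
  have hnu1 : ∀ (ξ : F →+* F), ¬ ∀ y, y ≠ 0 → ξ (nu m y) = 1 := fun ξ hc => by
    obtain ⟨y, hy, hy'⟩ := exists_ne_one_of_nu P.hm P.hF ξ
    exact hy' (hc y hy)
  -- the lower coordinate at `n`
  have hn0 : ∀ a b, xz 1 0 * (ξη a * κ'.comp (th m) b) +
      xn 1 2 * (κ.comp (th m) a * ξn b) = 0 := by
    refine two_terms (fun hBC hx _ => ?_) fun a => ?_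
    · obtain rfl := comp_th_injective P.hF hBC
      exact hnu1 ξη fun y hy => by
        rw [hξη hx y hy, div_self (by simpa using nu_ne_zero (m := m) hy)]
    · have e1 : ι (opZ (natRep κ) P.h a (xn a) + κ' (th m a) • xz a) = ι 0 := by
        rw [← hΦn, opZ_opZ_self, map_zero]
      have := congrFun (E.inj e1) 0
      simp [Matrix.vecHead, Matrix.vecTail, natRep_opZ, hxn3 a] at this
      rw [hfη a, hfn a] at this
      simp only [RingHom.comp_apply]
      linear_combination this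
  -- the middle coordinate at `e`
  have he1 : ∀ a b, xw 1 1 * (ξm a * κ'.comp (th m) b) +
      xe 1 3 * (κ.comp (th m) a * ξe3 b) = 0 := by
    refine two_terms (fun hBC hx _ => ?_) fun a => ?_
    · obtain rfl := comp_th_injective P.hF hBC
      exact hnu1 ξm fun y hy => by
        rw [hξm hx y hy]; simp [natWt, hy]
    · have e1 : ι (opZ (natRep κ) P.h a (xe a) + κ' (th m a) • xw a + κ' (a ^ 2) • xz a) =
          ι 0 := by
        rw [← hΦe, opZ_opZ_self, map_zero]
      have := congrFun (E.inj e1) 1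
      simp [Matrix.vecHead, Matrix.vecTail, natRep_opZ, hxz1 a] at this
      rw [hfm a, hfe3 a] at this
      simp only [RingHom.comp_apply]
      linear_combination this
  -- the lower coordinate at `e`: every term is a multiple of `κ' a * κ b`
  have t1 : ∀ a b, κ' (th m b) * xw a 0 = xw 1 0 * (κ' a * κ b) := by
    intro a b
    rw [hfv a]
    by_cases h0 : xw 1 0 = 0
    · simp [h0]
    have key : ∀ x, κ'.comp (th m) x * ξv x = κ x * κ' x := fun x => by
      rcases eq_or_ne x 0 with rfl | hx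
      · simp
      obtain ⟨y, hy, rfl⟩ := exists_nu P.hF hx
      have hy1 : κ' y ≠ 0 := by simpa using hy
      rw [hξv h0 y hy]
      simp only [RingHom.comp_apply, natWt, Matrix.cons_val, nu, map_mul, P.h y, map_pow]
      field_simp
    rcases pair_eq key with ⟨e1, e2⟩ | ⟨e1, -⟩
    · rw [show κ' (th m b) = κ b from RingHom.congr_fun e1 b, e2]; ring
    · exact absurd e1 (comp_th_ne P.hm P.hF κ')
  have t2 : ∀ a b, κ' (b ^ 2) * xz a 0 = xz 1 0 * (κ' a * κ b) := by
    intro a b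
    rw [hfη a]
    by_cases h0 : xz 1 0 = 0
    · simp [h0]
    have key : ∀ x, (sq2 F).comp κ' x * ξη x = κ x * κ' x := fun x => by
      rcases eq_or_ne x 0 with rfl | hx
      · simp
      obtain ⟨y, hy, rfl⟩ := exists_nu P.hF hx
      have hy1 : κ' (nu m y) ≠ 0 := by simpa using nu_ne_zero (m := m) hy
      rw [hξη h0 y hy, RingHom.comp_apply, sq2_apply]
      field_simp
    rcases pair_eq key with ⟨e1, e2⟩ | ⟨e1, -⟩
    · rw [show κ' (b ^ 2) = κ b by
        rw [← e1, RingHom.comp_apply, sq2_apply, map_pow, pow_two], e2]; ring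
    · exact absurd e1 (sq_comp_ne P.hm P.hF κ')
  have t3 : ∀ a b, κ (a ^ 2) * xe b 3 = xe 1 3 * (κ' a * κ b) := by
    intro a b
    rw [hfe3 b]
    by_cases h0 : xe 1 3 = 0
    · simp [h0]
    have key : ∀ x, (sq2 F).comp κ x * ξe3 x = κ' x * κ x := fun x => by
      rcases eq_or_ne x 0 with rfl | hx
      · simp
      obtain ⟨y, hy, rfl⟩ := exists_nu P.hF hx
      have hy1 : κ (nu m y) ≠ 0 := by simpa using nu_ne_zero (m := m) hy
      rw [hξe3 h0 y hy, RingHom.comp_apply, sq2_apply]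
      simp only [natWt, Matrix.cons_val]
      field_simp
    rcases pair_eq key with ⟨e1, e2⟩ | ⟨e1, -⟩
    · rw [show κ (a ^ 2) = κ' a by
        rw [← e1, RingHom.comp_apply, sq2_apply, map_pow, pow_two], e2]; ring
    · exact absurd e1 (sq_comp_ne P.hm P.hF κ)
  have t4 : ∀ a b, κ (th m a) * xe b 2 = xe 1 2 * (κ' a * κ b) := by
    intro a b
    rw [hfe2 b]
    by_cases h0 : xe 1 2 = 0
    · simp [h0]
    have key : ∀ x, κ.comp (th m) x * ξe2 x = κ' x * κ x := fun x => by
      rcases eq_or_ne x 0 with rfl | hx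
      · simp
      obtain ⟨y, hy, rfl⟩ := exists_nu P.hF hx
      have hy1 : κ y ≠ 0 := by simpa using hy
      rw [hξe2 h0 y hy]
      simp only [RingHom.comp_apply, natWt, Matrix.cons_val, nu, map_mul, P.h y, map_pow]
      field_simp
    rcases pair_eq key with ⟨e1, e2⟩ | ⟨e1, -⟩
    · rw [show κ (th m a) = κ' a from RingHom.congr_fun e1 a, e2]; ring
    · exact absurd e1 (comp_th_ne P.hm P.hF κ)
  have he0 : ∀ a b, (opZ (natRep κ) P.h a (xe b) + κ' (th m b) • xw a + κ' (b ^ 2) • xz a) 0 =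
      (xe 1 2 + xe 1 3 + xw 1 0 + xz 1 0) * (κ' a * κ b) := fun a b => by
    simp [Matrix.vecHead, Matrix.vecTail, natRep_opZ]
    linear_combination t1 a b + t2 a b + t3 a b + t4 a b - xe b 3 * map_pow κ a 2 -
      xz a 0 * map_pow κ' b 2
  have hX : xe 1 2 + xe 1 3 + xw 1 0 + xz 1 0 = 0 := by
    have e1 : ι (opZ (natRep κ) P.h 1 (xe 1) + κ' (th m 1) • xw 1 + κ' ((1 : F) ^ 2) • xz 1) =
        ι 0 := by
      rw [← hΦe, opZ_opZ_self, map_zero]
    have := he0 1 1
    rw [E.inj e1] at this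
    simpa using this.symm
  -- the vanishing
  have hzn : ∀ a b, opZ ρ P.h a (opZ ρ P.h b n) = 0 := fun a b => by
    rw [hΦn, ← map_zero ι]
    congr 1
    funext i
    have := hn0 a b
    fin_cases i <;> simp [Matrix.vecHead, Matrix.vecTail, natRep_opZ, hxn3 b, (hxz23 a).1, (hxz23 a).2, hxz1 a]
    rw [hfη a, hfn b]
    simp only [RingHom.comp_apply] at this
    linear_combination this
  have hze : ∀ a b, opZ ρ P.h a (opZ ρ P.h b e) = 0 := fun a b => by
    rw [hΦe, ← map_zero ι]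
    congr 1
    funext i
    have h1 := he1 a b
    have h0 := he0 a b
    rw [hX, zero_mul] at h0
    fin_cases i
    · exact h0
    · simp [Matrix.vecHead, Matrix.vecTail, natRep_opZ, hxz1 a]
      rw [hfm a, hfe3 b]
      simp only [RingHom.comp_apply] at h1
      linear_combination h1
    · simp [Matrix.vecHead, Matrix.vecTail, natRep_opZ, (hxz23 a).1, (hxw23 a).1]
    · simp [Matrix.vecHead, Matrix.vecTail, natRep_opZ, (hxz23 a).2, (hxw23 a).2]
  set c := π v
  obtain ⟨x, hx⟩ := E.exact_ (v + (c 0 • p + c 1 • w + c 2 • n + c 3 • e)) (by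
    simp only [map_add, map_smul, hp, hw, hn, he]
    funext i; fin_cases i <;> simp [bv, c, Matrix.vecHead, Matrix.vecTail, CharTwo.add_self_eq_zero])
  have hv : v = ι x + (c 0 • p + c 1 • w + c 2 • n + c 3 • e) := by
    rw [hx, add_assoc, vadd_self F, add_zero]
  rw [hv]
  simp only [map_add, map_smul, hzn, hze,
    E.zz_of_low a b (v := p) (by rw [hp]; simp [bv]) (by rw [hp]; simp [bv]),
    E.zz_of_low a b (v := w) (by rw [hw]; simp [bv]) (by rw [hw]; simp [bv]),
    E.zz_of_low a b (v := ι x) (by rw [E.zero]; rfl) (by rw [E.zero]; rfl), smul_zero, add_zero]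

/-- Fixed vectors lift. -/
theorem exists_fixed_lift : ∃ p, π p = bv 0 ∧ IsFix ρ P.h p ∧
    IsWt ρ P.h (fun y => κ' (nu m y)) p := by
  obtain ⟨hm, hF⟩ := P
  let P : Param F m := ⟨hm, hF⟩
  set S : V → Prop := fun v => ∀ b, opZ ρ P.h b v = 0
  have hSp : ∀ k v, S v → S (wproj ρ P.h k v) := fun k v hv b => by
    simp only [wproj, LinearMap.sum_apply, LinearMap.smul_apply, map_sum, map_smul]
    refine Finset.sum_eq_zero fun y _ => ?_
    have := dG_opZ ρ P.h y ((nu m (y : F))⁻¹ * b) v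
    rw [hv, map_zero, mul_inv_cancel_left₀ (nu_ne_zero y.ne_zero)] at this
    rw [← this, smul_zero]
  have hlift : ∀ i : Fin 4, i = 0 ∨ i = 1 → ∃ v, S v ∧ π v = bv i ∧
      IsWt ρ P.h (fun y => natWt m κ' y i) v := by
    intro i hi
    refine E.exists_lift (bv_isWt P.h κ' i) (fun e => by simpa [bv] using congrFun e i) S ?_ hSp
    rcases hi with rfl | rfl
    · obtain ⟨u, hu⟩ := E.surj (bv 2)
      refine ⟨opZ ρ P.h 1 u, fun b => E.quadratic b 1 u, ?_⟩
      rw [E.πZ, hu, natRep_opZ]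
      funext j; fin_cases j <;> simp [bv]
    · obtain ⟨u, hu⟩ := E.surj (bv 2 + bv 3)
      refine ⟨opZ ρ P.h 1 u, fun b => E.quadratic b 1 u, ?_⟩
      rw [E.πZ, hu, natRep_opZ]
      funext j; fin_cases j <;> simp [bv, Matrix.vecHead, Matrix.vecTail, CharTwo.add_self_eq_zero]
  obtain ⟨p, hpS, hp, hpw⟩ := hlift 0 (Or.inl rfl)
  obtain ⟨w, hwS, hw, hww⟩ := hlift 1 (Or.inr rfl)
  have hXX : ∀ {v}, S v → ∀ a, opX ρ P.h a (opX ρ P.h a v) = 0 := fun {v} hv a => by
    rw [opX_opX]; exact hv _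
  have hadd : ∀ {v}, S v → ∀ a c, opX ρ P.h (a + c) v =
      opX ρ P.h c v + opX ρ P.h a v + opX ρ P.h c (opX ρ P.h a v) := fun {v} hv a c => by
    rw [← opX_add, hv, opZ_opX_comm, hv, map_zero, add_zero, add_zero]
  have hX : ∀ a, ∃ x, ι x = opX ρ P.h a p := fun a => E.exact_ _ (by
    rw [E.πX, hp, natRep_opX]; simp [bv])
  choose xp hxp using hX
  have hXw : ∀ a, ∃ x, ι x = opX ρ P.h a w + κ' (th m a) • p := fun a => E.exact_ _ (by
    rw [map_add, E.πX, hw, natRep_opX, map_smul, hp]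
    funext i; fin_cases i <;> simp [bv, Matrix.vecHead, Matrix.vecTail, CharTwo.add_self_eq_zero])
  choose xw hxw using hXw
  have hw' : ∀ a, opX ρ P.h a w = ι (xw a) + κ' (th m a) • p := fun a => by
    rw [hxw, add_assoc, vadd_self F, add_zero]
  have hp23 : ∀ a, xp a 2 = 0 ∧ xp a 3 = 0 := fun a => E.coords_of_killed one_ne_zero (by
    rw [hxp, opZ_opX_comm, hpS, map_zero])
  have hw23 : ∀ a, xw a 2 = 0 ∧ xw a 3 = 0 := fun a => E.coords_of_killed one_ne_zero (by
    rw [hxw, map_add, map_smul, hpS, smul_zero, add_zero, opZ_opX_comm, hwS, map_zero])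
  have hp1 : ∀ a, xp a 1 = 0 := fun a => by
    rcases eq_or_ne a 0 with rfl | ha
    · have : xp 0 = 0 := E.inj (by rw [hxp, opX_zero, map_zero])
      rw [this]; rfl
    have e1 : ι (opX (natRep κ) P.h a (xp a)) = ι 0 := by
      rw [← E.ιX, hxp, hXX hpS, map_zero]
    have := congrFun (E.inj e1) 0
    simp [Matrix.vecHead, Matrix.vecTail, natRep_opX, (hp23 a).1, (hp23 a).2, ha] at this
    exact this
  have hXXp : ∀ a c, opX (natRep κ) P.h c (xp a) = 0 := fun a c => by
    rw [natRep_opX]; simp [hp1 a, (hp23 a).1, (hp23 a).2]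
  have hpadd : ∀ a c, xp (a + c) = xp a + xp c := fun a c => E.inj (by
    rw [map_add, hxp, hxp, hxp, hadd hpS a c]
    nth_rw 2 [← hxp a]
    rw [E.ιX, hXXp, map_zero, add_zero, add_comm])
  have hΦ : ∀ a c, opX ρ P.h c (opX ρ P.h a w) =
      ι (opX (natRep κ) P.h c (xw a) + κ' (th m a) • xp c) := fun a c => by
    rw [hw', map_add, map_smul, E.ιX, ← hxp, map_add, map_smul]
  have hwadd : ∀ a c, xw (a + c) =
      xw a + xw c + (opX (natRep κ) P.h c (xw a) + κ' (th m a) • xp c) := fun a c => E.inj (by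
    rw [map_add ι, map_add ι, ← hΦ, hxw, hxw, hxw, hadd hwS a c, map_add, map_add, add_smul]
    abel)
  obtain ⟨ξg, hξg, hfg⟩ := homog (fun a => xp a 0) (fun y => κ (nu m y) / κ' (nu m y))
    (fun a b => by simp [hpadd]) (fun y a hy => by
      have hs := E.wt_ι (y := Units.mk0 y hy) (c := natWt m κ' y 0) (x := xp a)
        (x' := xp (y * a)) (by rw [hxp, hxp, dG_opX, hpw, map_smul, Units.val_mk0]) 0
      simp only [natWt, Matrix.cons_val, Units.val_mk0] at hs
      rw [smul_eq_mul, div_mul_eq_mul_div, ← hs,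
        mul_div_cancel_left₀ _ (by simpa using nu_ne_zero (m := m) hy)])
  obtain ⟨ξn, hξn, hfn⟩ := homog (fun a => xw a 1) (fun y => κ y / κ' y)
    (fun a b => by simp [hwadd, Matrix.vecHead, Matrix.vecTail, natRep_opX, hp1 b, (hw23 a).1, (hw23 a).2]) (fun y a hy => by
      have hs := E.wt_ι (y := Units.mk0 y hy) (c := natWt m κ' y 1) (x := xw a)
        (x' := xw (y * a)) (by
          rw [hxw, hxw, map_add, map_smul, dG_opX, hww, hpw, map_smul, Units.val_mk0, smul_add,
            smul_smul, smul_smul]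
          congr 2
          simp only [natWt, Matrix.cons_val, nu, map_mul]
          ring) 1
      simp only [natWt, Matrix.cons_val, Units.val_mk0] at hs
      rw [smul_eq_mul, div_mul_eq_mul_div, ← hs, mul_div_cancel_left₀ _ (by simpa using hy)])
  refine ⟨p, hp, isFix_of_ops ρ P.h hpS fun a => ?_, fun y => hpw y⟩
  have hg : xp 1 0 = 0 := by
    by_contra hg
    have hdiag : ∀ a, xp 1 0 * (κ'.comp (th m) a * ξg a) +
        xw 1 1 * (κ.comp (th m) a * ξn a) = 0 := fun a => by
      have e1 : ι (opX (natRep κ) P.h a (xw a) + κ' (th m a) • xp a) = ι 0 := by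
        rw [← hΦ, hXX hwS, map_zero]
      have := congrFun (E.inj e1) 0
      simp [Matrix.vecHead, Matrix.vecTail, natRep_opX, (hw23 a).1, (hw23 a).2] at this
      rw [hfg a, hfn a, smul_eq_mul, smul_eq_mul] at this
      simp only [RingHom.comp_apply]
      linear_combination this
    have h1 := hdiag 1
    simp only [map_one, mul_one] at h1
    have hw1 : xw 1 1 = xp 1 0 := by
      linear_combination h1 - xp 1 0 * CharTwo.two_eq_zero (R := F)
    have hpair : ∀ a, κ'.comp (th m) a * ξg a = κ.comp (th m) a * ξn a := fun a => by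
      refine mul_left_cancel₀ hg ?_
      have := hdiag a
      rw [hw1] at this
      linear_combination this - xp 1 0 * (κ.comp (th m) a * ξn a) * CharTwo.two_eq_zero (R := F)
    rcases pair_eq hpair with ⟨e1, -⟩ | ⟨-, e2⟩
    · obtain rfl := comp_th_injective P.hF e1
      obtain ⟨z, hz0, hz1⟩ := exists_ne01 P.hm P.hF
      refine hz1 (ξg.injective ?_)
      rw [hξg hg z hz0, map_one, div_self (by simpa using nu_ne_zero (m := m) hz0)]
    · have : κ' = κ'.comp (th m) := prod_single (c := κ) fun y => by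
        rcases eq_or_ne y 0 with rfl | hy
        · simp
        have hh := hξg hg y hy
        rw [e2, RingHom.comp_apply, eq_div_iff (by simpa using nu_ne_zero (m := m) hy)] at hh
        refine mul_left_cancel₀ (show κ (th m y) ≠ 0 by simpa using hy) ?_
        simp only [RingHom.comp_apply, nu, map_mul] at hh ⊢
        linear_combination hh
      exact comp_th_ne P.hm P.hF κ' this.symm
  rw [← hxp, ← map_zero ι]
  congr 1
  funext i
  fin_cases i
  · show xp a 0 = 0
    rw [hfg a, hg, smul_zero]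
  · exact hp1 a
  · exact (hp23 a).1
  · exact (hp23 a).2

end IsExt

end CfsgLib.Suzuki.Martineau
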