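import Cfsg.Agent.Lib.Suzuki.Martineau.Semisimple

/-!
# The squaring map of an extension of modules without fixed points vanishes
-/

set_option autoImplicit false
set_option linter.unusedSectionVars false

namespace CfsgLib.Suzuki.Martineau

variable {F : Type*} [Field F] [CharP F 2] [Fintype F] {m : ℕ}

/-- The projection to a weight, for a representation of the torus. -/
noncomputable def tproj {E : Type*} [AddCommGroup E] [Module F E] (τ : Representation F Fˣ E)
    (k : ℕ) : E →ₗ[F] E := by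
  classical
  exact ∑ y : Fˣ, (((y : F) ^ k)⁻¹) • τ y

theorem tproj_wt {E : Type*} [AddCommGroup E] [Module F E] (τ : Representation F Fˣ E) (k : ℕ)
    (v : E) (z : Fˣ) : τ z (tproj τ k v) = (z : F) ^ k • tproj τ k v := by
  classical
  simp only [tproj, LinearMap.sum_apply, LinearMap.smul_apply, map_sum, map_smul, Finset.smul_sum,
    smul_smul]
  refine Fintype.sum_equiv (Equiv.mulLeft z) _ _ fun y => ?_
  rw [← Module.End.mul_apply, ← map_mul]
  have hz : (z : F) ≠ 0 := z.ne_zero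
  rw [Equiv.coe_mulLeft, Units.val_mul, mul_pow, mul_inv, mul_inv_cancel_left₀ (pow_ne_zero k hz)]

/-- The data of a squaring map. -/
structure IsSquare (P : Param F m) {V R E : Type*} [AddCommGroup V] [Module F V] [AddCommGroup R]
    [Module F R] [AddCommGroup E] [Module F E] (ρ : Representation F (Cfsg.Sz F m) V)
    (σ : Representation F (Cfsg.Sz F m) R) (τ : Representation F Fˣ E) (f : V →ₗ[F] R)
    (ι : R →ₗ[F] E) (π : E →ₗ[F] V) (ψ : F → E →ₗ[F] R) (Δ : F → V →ₗ[F] E) : Prop where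
  f_comm : ∀ g v, f (ρ g v) = σ g (f v)
  ι_comm : ∀ y r, ι (σ (dG P.h y) r) = τ y (ι r)
  π_comm : ∀ y e, π (τ y e) = ρ (dG P.h y) (π e)
  exact_ : ∀ e, π e = 0 → ∃ r, ι r = e
  π_Δ : ∀ b v, π (Δ b v) = opZ ρ P.h b v
  ψ_ι : ∀ b r, ψ b (ι r) = opZ σ P.h b r
  ψ_Δ : ∀ b v, ψ b (Δ b v) = f (opZ ρ P.h b v)
  ψ_add : ∀ b c e, ψ (b + c) e = ψ b e + ψ c e
  Δ_add : ∀ b c v, Δ (b + c) v = Δ b v + Δ c v
  ψ_comm : ∀ (y : Fˣ) b e, ψ (nu m (y : F) * b) (τ y e) = σ (dG P.h y) (ψ b e)
  Δ_comm : ∀ (y : Fˣ) b v, Δ (nu m (y : F) * b) (ρ (dG P.h y) v) = τ y (Δ b v)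

/-- The squaring map vanishes. -/
theorem IsSquare.eq_zero {P : Param F m} {V R E : Type*} [AddCommGroup V] [Module F V] [Finite V]
    [AddCommGroup R] [Module F R] [Finite R] [AddCommGroup E] [Module F E]
    {ρ : Representation F (Cfsg.Sz F m) V} {σ : Representation F (Cfsg.Sz F m) R}
    {τ : Representation F Fˣ E} {f : V →ₗ[F] R} {ι : R →ₗ[F] E} {π : E →ₗ[F] V}
    {ψ : F → E →ₗ[F] R} {Δ : F → V →ₗ[F] E} (S : IsSquare P ρ σ τ f ι π ψ Δ)
    (hV : Fpf ρ P.h) (hR : Fpf σ P.h) : f = 0 := by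
  classical
  refine LinearMap.ext fun v => ?_
  by_contra hne
  obtain ⟨κ, g, hg, hg0⟩ := exists_proj P hR hne
  obtain ⟨κ', s, hs, hbij⟩ := exists_section_of_ne P hV (κ := κ) (f := g.comp f)
    (fun k w => by simp only [LinearMap.comp_apply, S.f_comm, hg])
    (fun e => hg0 (LinearMap.congr_fun e v))
  -- normalise the section
  let e0 := LinearEquiv.ofBijective _ hbij
  let s' := s.comp e0.symm.toLinearMap
  have hgs : ∀ x, g (f (s' x)) = x := fun x => e0.apply_symm_apply x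
  have he0 : ∀ k x, e0.symm (natRep κ k x) = natRep κ' k (e0.symm x) := fun k x => by
    rw [LinearEquiv.symm_apply_eq]
    show _ = g (f (s (natRep κ' k (e0.symm x))))
    rw [hs, S.f_comm, hg]
    exact congrArg _ (e0.apply_symm_apply x).symm
  have hs' : ∀ k x, s' (natRep κ k x) = ρ k (s' x) := fun k x => by
    simp only [s', LinearMap.comp_apply, LinearEquiv.coe_coe, he0, hs]
  have hsZ : ∀ b x, opZ ρ P.h b (s' x) = s' (opZ (natRep κ) P.h b x) := fun b x => by
    simp only [opZ, dl_apply, map_add, hs']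
  -- weight lifts to the middle
  have hlift : ∀ i : Fin 4, (∃ u, π u = s' (bv i)) → ∃ u, π u = s' (bv i) ∧
      ∀ y : Fˣ, τ y u = natWt m κ (y : F) i • u := by
    rintro i ⟨u, hu⟩
    obtain ⟨k, hk, hk'⟩ := wproj_of_isWt (natRep κ) P.h (bv_isWt P.h κ i)
      (fun e => by simpa [bv] using congrFun e i)
    refine ⟨tproj τ k u, ?_, fun y => by rw [hk y]; exact tproj_wt τ k u y⟩
    rw [← hk']
    simp only [tproj, wproj, LinearMap.sum_apply, LinearMap.smul_apply, map_sum, map_smul,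
      S.π_comm, hu, hs']
  obtain ⟨u0, hu0, hu0w⟩ := hlift 0 ⟨Δ 1 (s' (bv 2)), by
    rw [S.π_Δ, hsZ, natRep_opZ]
    congr 1
    funext i; fin_cases i <;> simp [bv]⟩
  obtain ⟨u1, hu1, hu1w⟩ := hlift 1 ⟨Δ 1 (s' (bv 3)) + Δ 1 (s' (bv 2)), by
    rw [map_add, S.π_Δ, S.π_Δ, hsZ, hsZ, natRep_opZ, natRep_opZ, ← map_add]
    congr 1
    funext i; fin_cases i <;> simp [bv, CharTwo.add_self_eq_zero]⟩
  -- the remainder
  have hex : ∀ b, ∃ r, ι r = Δ b (s' (bv 3)) + κ (th m b) • u1 + κ (b ^ 2) • u0 := fun b =>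
    S.exact_ _ (by
      rw [map_add, map_add, S.π_Δ, hsZ, natRep_opZ, map_smul, map_smul, hu0, hu1, ← map_smul,
        ← map_smul, ← map_add, ← map_add]
      rw [show (![κ (th m b) * (bv 3 : Fin 4 → F) 2 + κ (b ^ 2) * (bv 3 : Fin 4 → F) 3,
        κ (th m b) * (bv 3 : Fin 4 → F) 3, 0, 0] + κ (th m b) • bv 1 + κ (b ^ 2) • bv 0 :
          Fin 4 → F) = 0 by
        funext i; fin_cases i <;>
          simp [bv, Matrix.vecHead, Matrix.vecTail, CharTwo.add_self_eq_zero], map_zero])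
  choose r hr using hex
  -- coordinates two and three are determined by the image in the middle
  have hzero : ∀ x : R, ι x = 0 → g x 2 = 0 ∧ g x 3 = 0 := fun x hx => by
    have h0 := congrArg g (S.ψ_ι 1 x)
    rw [hx, map_zero, map_zero] at h0
    simp only [opZ, dl_apply, map_add, hg] at h0
    rw [← dl_apply, show dl (natRep κ) (tG P.h 0 1) (g x) = opZ (natRep κ) P.h 1 (g x) from rfl,
      natRep_opZ] at h0
    have e1 := congrFun h0 1
    have e0 := congrFun h0 0
    simp at e0 e1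
    rw [← e1, add_zero] at e0
    exact ⟨e0.symm, e1.symm⟩
  have hco : ∀ (x x' : R), ι x = ι x' → g x 2 = g x' 2 ∧ g x 3 = g x' 3 := fun x x' e => by
    obtain ⟨a, b⟩ := hzero (x - x') (by rw [map_sub, e, sub_self])
    rw [map_sub, Pi.sub_apply, sub_eq_zero] at a b
    exact ⟨a, b⟩
  have hradd : ∀ b c, ι (r (b + c)) = ι (r b + r c) := fun b c => by
    rw [map_add, hr, hr, hr, S.Δ_add, map_add, map_add,
      show (b + c) ^ 2 = b ^ 2 + c ^ 2 from by
        linear_combination (b * c) * CharTwo.two_eq_zero (R := F),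
      map_add, add_smul, add_smul]
    abel
  have hrwt : ∀ y : F, y ≠ 0 → ∀ b, ∀ i : Fin 4, i = 2 ∨ i = 3 →
      g (r (nu m y * b)) i = κ (nu m y) * natWt m κ y i * g (r b) i := by
    intro y hy b i hi
    have hy1 : κ y ≠ 0 := by simpa using hy
    have hy2 : κ (th m y) ≠ 0 := by simpa using hy
    have hy3 : κ (nu m y) ≠ 0 := by simpa using nu_ne_zero (m := m) hy
    set Y : Fˣ := Units.mk0 y hy
    have hs3 : ρ (dG P.h Y) (s' (bv 3)) = (κ (nu m y))⁻¹ • s' (bv 3) := by
      rw [← hs', bv_isWt P.h κ 3 Y, map_smul]; simp [natWt, Y]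
    have e : ι ((κ (nu m y))⁻¹ • r (nu m y * b)) = ι (σ (dG P.h Y) (r b)) := by
      rw [map_smul, S.ι_comm, hr, hr, map_add, map_add, map_smul, map_smul, hu1w, hu0w,
        ← S.Δ_comm, hs3, map_smul, smul_add, smul_add, smul_smul, smul_smul, smul_smul, smul_smul]
      congr 2
      · congr 1
        simp only [natWt, Matrix.cons_val, Y, Units.val_mk0, map_mul, nu, P.h y, map_pow]
        field_simp
      · simp only [natWt, Matrix.cons_val, Y, Units.val_mk0, map_mul, nu, map_pow]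
        field_simp
    have := hco _ _ e
    rw [map_smul, hg, natRep_dG] at this
    simp only [Pi.smul_apply, smul_eq_mul, Y, Units.val_mk0] at this
    rcases hi with rfl | rfl
    · have h' := this.1
      rw [inv_mul_eq_iff_eq_mul₀ hy3] at h'
      rw [h', mul_assoc]
    · have h' := this.2
      rw [inv_mul_eq_iff_eq_mul₀ hy3] at h'
      rw [h', mul_assoc]
  have hconst : ∀ f : F → F, (∀ a b, f (a + b) = f a + f b) →
      (∀ y a, y ≠ 0 → f (nu m y * a) = 1 * f a) → ∀ a, f a = 0 := fun f hadd hw a => by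
    obtain ⟨ξ, hξ, hf⟩ := homog_nu P.hF f (fun _ => 1) hadd hw
    rw [hf a]
    by_cases h1 : f 1 = 0
    · rw [h1, mul_zero]
    obtain ⟨y, hy, hy'⟩ := exists_ne_one_of_nu P.hm P.hF ξ
    exact absurd (hξ h1 y hy) hy'
  have hth : ∀ f : F → F, (∀ a b, f (a + b) = f a + f b) →
      (∀ y a, y ≠ 0 → f (nu m y * a) = κ (th m y) * f a) → ∀ a, f a = 0 := fun f hadd hw a => by
    obtain ⟨ξ, hξ, hf⟩ := homog_nu P.hF f (fun y => κ (th m y)) hadd hw
    rw [hf a]
    by_cases h1 : f 1 = 0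
    · rw [h1, mul_zero]
    refine absurd (prod_single (c := κ.comp (th m)) fun y => ?_).symm (comp_th_ne P.hm P.hF ξ)
    rcases eq_or_ne y 0 with rfl | hy
    · simp
    have := hξ h1 y hy
    simp only [nu, map_mul] at this
    exact this
  have hr3 : ∀ b, g (r b) 3 = 0 := hconst _
    (fun a b => by rw [(hco _ _ (hradd a b)).2, map_add, Pi.add_apply]) fun y a hy => by
      rw [hrwt y hy a 3 (Or.inr rfl)]
      have : κ (nu m y) ≠ 0 := by simpa using nu_ne_zero (m := m) hy
      simp [natWt, this]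
  have hr2 : ∀ b, g (r b) 2 = 0 := hth _
    (fun a b => by rw [(hco _ _ (hradd a b)).1, map_add, Pi.add_apply]) fun y a hy => by
      rw [hrwt y hy a 2 (Or.inl rfl)]
      have : κ y ≠ 0 := by simpa using hy
      simp only [natWt, Matrix.cons_val, nu, map_mul]
      field_simp
  have hl0 : ∀ b, g (ψ b u0) 0 = 0 := hconst _
    (fun a b => by rw [S.ψ_add, map_add, Pi.add_apply]) fun y a hy => by
      have := congrArg (fun z => g z 0) (S.ψ_comm (Units.mk0 y hy) a u0)
      simp only [hu0w, map_smul, hg, natRep_dG, Pi.smul_apply, smul_eq_mul, Units.val_mk0,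
        natWt, Matrix.cons_val] at this
      rw [one_mul]
      exact mul_left_cancel₀ (by simpa using nu_ne_zero (m := m) hy) this
  have hl1 : ∀ b, g (ψ b u1) 0 = 0 := hth _
    (fun a b => by rw [S.ψ_add, map_add, Pi.add_apply]) fun y a hy => by
      have := congrArg (fun z => g z 0) (S.ψ_comm (Units.mk0 y hy) a u1)
      simp only [hu1w, map_smul, hg, natRep_dG, Pi.smul_apply, smul_eq_mul, Units.val_mk0,
        natWt, Matrix.cons_val] at this
      refine mul_left_cancel₀ (show κ y ≠ 0 by simpa using hy) ?_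
      rw [this]
      simp only [nu, map_mul]
      ring
  -- the contradiction
  have key : g (f (opZ ρ P.h 1 (s' (bv 3)))) 0 = 0 := by
    have e : Δ 1 (s' (bv 3)) = ι (r 1) + κ (th m 1) • u1 + κ ((1 : F) ^ 2) • u0 := by
      rw [hr, show Δ 1 (s' (bv 3)) + κ (th m 1) • u1 + κ ((1 : F) ^ 2) • u0 + κ (th m 1) • u1 +
        κ ((1 : F) ^ 2) • u0 = Δ 1 (s' (bv 3)) + ((κ (th m 1) • u1 + κ (th m 1) • u1) +
          (κ ((1 : F) ^ 2) • u0 + κ ((1 : F) ^ 2) • u0)) by abel, vadd_self F, vadd_self F,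
        add_zero, add_zero]
    rw [← S.ψ_Δ, e]
    simp only [map_add, map_smul, S.ψ_ι, Pi.add_apply, Pi.smul_apply, hl0, hl1, smul_zero,
      add_zero]
    simp only [opZ, dl_apply, map_add, hg]
    rw [← dl_apply, show dl (natRep κ) (tG P.h 0 1) (g (r 1)) =
      opZ (natRep κ) P.h 1 (g (r 1)) from rfl, natRep_opZ]
    simp [hr2, hr3]
  rw [hsZ, hgs, natRep_opZ] at key
  simp [bv] at key

end CfsgLib.Suzuki.Martineau
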