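import Cfsg.Agent.Lib.Suzuki.Martineau.Bilinear
import Cfsg.Agent.Lib.Suzuki.Martineau.Square
import Mathlib.RingTheory.Flat.Basic
import Mathlib.Algebra.Algebra.ZMod

/-!
# From elementary abelian groups to modules over the field
-/

set_option autoImplicit false
set_option linter.unusedSectionVars false
set_option linter.style.haveILetI false

namespace CfsgLib.Suzuki.Martineau

open TensorProduct

variable {F : Type*} [Field F] [CharP F 2] [Fintype F] {m : ℕ}

local instance instAlgZModTwo : Algebra (ZMod 2) F := ZMod.algebra F 2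

/-- Extension of scalars. -/
abbrev Ext2 (F : Type*) [Field F] [CharP F 2] (M : Type*) [AddCommGroup M] [Module (ZMod 2) M] :=
  letI : Algebra (ZMod 2) F := ZMod.algebra F 2
  TensorProduct (ZMod 2) F M

variable {M : Type*} [AddCommGroup M] [Module (ZMod 2) M]

theorem one_tmul_eq_zero {x : M} (h : (1 : F) ⊗ₜ[ZMod 2] x = 0) : x = 0 := by
  obtain ⟨r, hr⟩ := Module.Projective.exists_dual_ne_zero (ZMod 2) (one_ne_zero : (1 : F) ≠ 0)
  have := congrArg ((TensorProduct.lid (ZMod 2) M).toLinearMap ∘ₗ LinearMap.rTensor M r) h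
  simp only [LinearMap.comp_apply, LinearMap.rTensor_tmul, LinearEquiv.coe_coe,
    TensorProduct.lid_tmul, map_zero] at this
  exact (smul_eq_zero.1 this).resolve_left hr

theorem ext_one {W : Type*} [AddCommGroup W] [Module F W] {f g : F ⊗[ZMod 2] M →ₗ[F] W}
    (h : ∀ x, f (1 ⊗ₜ x) = g (1 ⊗ₜ x)) : f = g := by
  refine LinearMap.ext fun z => ?_
  induction z with
  | zero => rw [map_zero, map_zero]
  | tmul c x =>
    rw [show c ⊗ₜ[ZMod 2] x = c • ((1 : F) ⊗ₜ[ZMod 2] x) by
      rw [TensorProduct.smul_tmul', smul_eq_mul, mul_one], map_smul, map_smul, h]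
  | add a b ha hb => rw [map_add, map_add, ha, hb]

/-- Extension of scalars of a representation. -/
noncomputable def bcRep {G : Type*} [Monoid G] (ρ : Representation (ZMod 2) G M) :
    Representation F G (F ⊗[ZMod 2] M) where
  toFun g := (ρ g).baseChange F
  map_one' := ext_one fun x => by simp [LinearMap.baseChange_tmul]
  map_mul' g k := ext_one fun x => by simp [LinearMap.baseChange_tmul, Module.End.mul_apply]

theorem bcRep_tmul {G : Type*} [Monoid G] (ρ : Representation (ZMod 2) G M) (g : G) (c : F)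
    (x : M) : bcRep ρ g (c ⊗ₜ x) = c ⊗ₜ ρ g x := LinearMap.baseChange_tmul ..

theorem bc_dl (ρ : Representation (ZMod 2) (Cfsg.Sz F m) M) (g : Cfsg.Sz F m) (x : M) :
    dl (bcRep (F := F) ρ) g (1 ⊗ₜ x) = 1 ⊗ₜ (ρ g x - x) := by
  show bcRep ρ g ((1 : F) ⊗ₜ[ZMod 2] x) - (1 : F) ⊗ₜ[ZMod 2] x = _
  rw [bcRep_tmul, TensorProduct.tmul_sub]

theorem fpf_bc (h : ThSq F m) {ρ : Representation (ZMod 2) (Cfsg.Sz F m) M}
    (hx : ∀ v, ρ (xG h) v = v → v = 0) : Fpf (bcRep (F := F) ρ) h := by
  have hS : ∀ v : M, v + ρ (xG h) v + ρ (xG h)⁻¹ v + ρ (xG h * xG h) v +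
      ρ ((xG h)⁻¹ * (xG h)⁻¹) v = 0 := fun v => by
    refine hx _ ?_
    have e : xG h * (xG h * xG h) = (xG h)⁻¹ * (xG h)⁻¹ := by
      rw [← mul_inv_rev, eq_inv_iff_mul_eq_one, ← xG_pow_five h]
      simp [pow_succ, mul_assoc]
    simp only [map_add, ← Module.End.mul_apply, ← map_mul, mul_inv_cancel, mul_inv_cancel_left, e,
      map_one, Module.End.one_apply]
    abel
  intro v
  induction v with
  | zero => simp
  | tmul c x =>
    simp only [bcRep_tmul, ← TensorProduct.tmul_add, hS, TensorProduct.tmul_zero]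
  | add a b ha hb =>
    simp only [map_add]
    linear_combination (norm := abel) ha + hb

instance finite_ext2 [Finite M] : Finite (F ⊗[ZMod 2] M) := by
  haveI : Module.Finite (ZMod 2) M := Module.Finite.of_finite
  exact Module.finite_of_finite F

/-- Equivariant pairings of elementary abelian groups vanish. -/
theorem pairing_eq_zero (P : Param F m) {U V W : Type*} [AddCommGroup U] [Module (ZMod 2) U]
    [Finite U] [AddCommGroup V] [Module (ZMod 2) V] [Finite V] [AddCommGroup W]
    [Module (ZMod 2) W] [Finite W] {ρ : Representation (ZMod 2) (Cfsg.Sz F m) U}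
    {σ : Representation (ZMod 2) (Cfsg.Sz F m) V} {τ : Representation (ZMod 2) (Cfsg.Sz F m) W}
    (hU : ∀ v, ρ (xG P.h) v = v → v = 0) (hV : ∀ v, σ (xG P.h) v = v → v = 0)
    (hW : ∀ v, τ (xG P.h) v = v → v = 0) (β : U →ₗ[ZMod 2] V →ₗ[ZMod 2] W)
    (hβ : ∀ g x y, β (ρ g x) (σ g y) = τ g (β x y)) (x : U) (y : V) : β x y = 0 := by
  let β' : F ⊗[ZMod 2] U →ₗ[F] F ⊗[ZMod 2] V →ₗ[F] F ⊗[ZMod 2] W :=
    LinearMap.liftBaseChange F
      ((LinearMap.baseChangeHom (ZMod 2) F V W).comp β)
  have hβ' : ∀ (c d : F) (a : U) (b : V), β' (c ⊗ₜ a) (d ⊗ₜ b) = (c * d) ⊗ₜ β a b := fun c d a b => by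
    simp [β', LinearMap.liftBaseChange_tmul, TensorProduct.smul_tmul']
  have h := bilin_eq_zero P (fpf_bc P.h hU) (fpf_bc P.h hV) (fpf_bc P.h hW) β' (fun g p q => by
    induction p with
    | zero => simp
    | add a b ha hb => simp only [map_add, LinearMap.add_apply, ha, hb]
    | tmul c a =>
      induction q with
      | zero => simp
      | add a b ha hb => simp only [map_add, ha, hb]
      | tmul d b => rw [bcRep_tmul, bcRep_tmul, hβ', hβ', bcRep_tmul, hβ]) (1 ⊗ₜ x) (1 ⊗ₜ y)
  rw [hβ', mul_one] at h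
  exact one_tmul_eq_zero h

/-- An abelian group with elementary factors without fixed points has exponent two. -/
theorem add_self_eq_zero_of_fpf (P : Param F m) {A : Type*} [AddCommGroup A] [Finite A]
    (T : Cfsg.Sz F m →* AddMonoid.End A) (Rs : AddSubgroup A) (hinv : ∀ g, ∀ r ∈ Rs, T g r ∈ Rs)
    (h2 : ∀ a, a + a ∈ Rs) (hR : ∀ r ∈ Rs, r + r = 0)
    (hfix : ∀ a, T (xG P.h) a = a → a = 0) (hfixq : ∀ a, T (xG P.h) a - a ∈ Rs → a ∈ Rs)
    (a : A) : a + a = 0 := by
  classical
  have hT1 : ∀ v, T 1 v = v := fun v => by rw [map_one]; rfl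
  have hTm : ∀ g k v, T (g * k) v = T g (T k v) := fun g k v => by rw [map_mul]; rfl
  -- the representations
  letI : Module (ZMod 2) Rs := AddCommGroup.zmodModule fun r => by
    rw [two_nsmul]; exact Subtype.ext (hR r r.2)
  letI : Module (ZMod 2) (A ⧸ Rs) := AddCommGroup.zmodModule fun r => by
    obtain ⟨v, rfl⟩ := QuotientAddGroup.mk_surjective r
    rw [two_nsmul, ← QuotientAddGroup.mk_add, QuotientAddGroup.eq_zero_iff]
    exact h2 v
  let σ : Representation (ZMod 2) (Cfsg.Sz F m) Rs :=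
    { toFun := fun g => (AddMonoidHom.mk' (fun r : Rs => (⟨T g r, hinv g r r.2⟩ : Rs))
        fun r s => Subtype.ext (map_add (T g) _ _)).toZModLinearMap 2
      map_one' := LinearMap.ext fun r => Subtype.ext (hT1 r)
      map_mul' := fun g k => LinearMap.ext fun r => Subtype.ext (hTm g k r) }
  let ρ : Representation (ZMod 2) (Cfsg.Sz F m) (A ⧸ Rs) :=
    { toFun := fun g => (QuotientAddGroup.map Rs Rs (T g) fun r hr => hinv g r hr).toZModLinearMap 2
      map_one' := LinearMap.ext fun r => by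
        obtain ⟨v, rfl⟩ := QuotientAddGroup.mk_surjective r
        exact congrArg QuotientAddGroup.mk (hT1 v)
      map_mul' := fun g k => LinearMap.ext fun r => by
        obtain ⟨v, rfl⟩ := QuotientAddGroup.mk_surjective r
        exact congrArg QuotientAddGroup.mk (hTm g k v) }
  have hρ : ∀ g (v : A), ρ g (QuotientAddGroup.mk v) = QuotientAddGroup.mk (T g v) := fun _ _ => rfl
  have hσ : ∀ g (r : Rs), ((σ g r : Rs) : A) = T g r := fun _ _ => rfl
  have hρx : ∀ v, ρ (xG P.h) v = v → v = 0 := fun v hv => by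
    obtain ⟨v, rfl⟩ := QuotientAddGroup.mk_surjective v
    rw [hρ, QuotientAddGroup.eq_iff_sub_mem] at hv
    exact (QuotientAddGroup.eq_zero_iff v).2 (hfixq v hv)
  have hσx : ∀ v, σ (xG P.h) v = v → v = 0 := fun v hv =>
    Subtype.ext (hfix v (congrArg Subtype.val hv))
  have hfV := fpf_bc P.h hρx
  have hfR := fpf_bc P.h hσx
  -- the central operators
  let D : F → A →+ A := fun b =>
    AddMonoidHom.mk' (fun v => T (tG P.h 0 b) v - v) fun v w => by simp only [map_add]; abel
  have hD : ∀ b v, D b v = T (tG P.h 0 b) v - v := fun _ _ => rfl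
  have hDD : ∀ b v, D b (D b v) = -(D b v + D b v) := fun b v => by
    simp only [hD, map_sub, ← hTm, tG_zero_sq, hT1]
    abel
  have hDadd : ∀ b c v, D (b + c) v = D b v + D c v + D b (D c v) := fun b c v => by
    simp only [hD, map_sub, ← hTm, tG_mul, map_zero, zero_mul, add_zero, add_comm c b]
    abel
  have hDRs : ∀ b r, r ∈ Rs → D b r ∈ Rs := fun b r hr => sub_mem (hinv _ r hr) hr
  have hquadV : ∀ b c v, D b (D c v) ∈ Rs := fun b c v => by
    refine (QuotientAddGroup.eq_zero_iff _).1 (one_tmul_eq_zero (F := F) ?_)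
    have e := opZ_quadratic P hfV b c (1 ⊗ₜ (QuotientAddGroup.mk v : A ⧸ Rs))
    rw [opZ, opZ, bc_dl, bc_dl] at e
    exact e
  have hquadR : ∀ b c r, r ∈ Rs → D b (D c r) = 0 := fun b c r hr => by
    have e := opZ_quadratic P hfR b c (1 ⊗ₜ (⟨r, hr⟩ : Rs))
    rw [opZ, opZ, bc_dl, bc_dl] at e
    exact congrArg Subtype.val (one_tmul_eq_zero e)
  have hkill : ∀ r ∈ Rs, ∀ c, c ≠ 0 → D c r = 0 → ∀ b, D b r = 0 := fun r hr c hc h0 b => by
    have e : opZ (bcRep (F := F) σ) P.h c (1 ⊗ₜ (⟨r, hr⟩ : Rs)) = 0 := by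
      rw [opZ, bc_dl, show σ (tG P.h 0 c) ⟨r, hr⟩ - (⟨r, hr⟩ : Rs) = 0 from Subtype.ext h0,
        TensorProduct.tmul_zero]
    obtain ⟨z, hz⟩ := exists_opZ hfR hc P.hF e
    have e2 := opZ_quadratic P hfR b c z
    rw [hz, opZ, bc_dl] at e2
    exact congrArg Subtype.val (one_tmul_eq_zero e2)
  -- the middle group
  let Hat : AddSubgroup A :=
    { carrier := {v | ∀ b, D b v ∈ Rs}
      zero_mem' := fun b => by rw [map_zero]; exact zero_mem _
      add_mem' := fun hv hw b => by rw [map_add]; exact add_mem (hv b) (hw b)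
      neg_mem' := fun hv b => by rw [map_neg]; exact neg_mem (hv b) }
  let K : AddSubgroup A :=
    { carrier := {r | r ∈ Rs ∧ ∀ b, D b r = 0}
      zero_mem' := ⟨zero_mem _, fun b => map_zero _⟩
      add_mem' := fun hv hw => ⟨add_mem hv.1 hw.1, fun b => by rw [map_add, hv.2, hw.2, add_zero]⟩
      neg_mem' := fun hv => ⟨neg_mem hv.1, fun b => by rw [map_neg, hv.2, neg_zero]⟩ }
  let K' : AddSubgroup Hat := K.addSubgroupOf Hat
  have hHat2 : ∀ v ∈ Hat, v + v ∈ K := fun v hv =>
    ⟨h2 v, fun b => by rw [map_add]; exact hR _ (hv b)⟩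
  letI : Module (ZMod 2) (Hat ⧸ K') := AddCommGroup.zmodModule fun r => by
    obtain ⟨v, rfl⟩ := QuotientAddGroup.mk_surjective r
    rw [two_nsmul, ← QuotientAddGroup.mk_add, QuotientAddGroup.eq_zero_iff]
    exact hHat2 v v.2
  have hTD : ∀ (y : Fˣ) b v, D (nu m (y : F) * b) (T (dG P.h y) v) = T (dG P.h y) (D b v) :=
    fun y b v => by
      simp only [hD, map_sub, ← hTm, dG_conj', mul_zero]
  have hTinv : ∀ (y : Fˣ) b v, D b (T (dG P.h y) v) =
      T (dG P.h y) (D ((nu m (y : F))⁻¹ * b) v) := fun y b v => by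
    rw [← hTD, mul_inv_cancel_left₀ (nu_ne_zero y.ne_zero)]
  have hTHat : ∀ (y : Fˣ) v, v ∈ Hat → T (dG P.h y) v ∈ Hat := fun y v hv b => by
    rw [hTinv]; exact hinv _ _ (hv _)
  let τ : Representation (ZMod 2) Fˣ (Hat ⧸ K') :=
    { toFun := fun y => (QuotientAddGroup.map K' K'
      (AddMonoidHom.mk' (fun v : Hat => (⟨T (dG P.h y) v, hTHat y v v.2⟩ : Hat))
        fun v w => Subtype.ext (map_add (T _) _ _))
      fun v hv => ⟨hinv _ _ hv.1, fun b => by
        show D b (T (dG P.h y) v) = 0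
        rw [hTinv, show D _ (v : A) = 0 from hv.2 _, map_zero]⟩).toZModLinearMap 2
      map_one' := LinearMap.ext fun r => by
        obtain ⟨v, rfl⟩ := QuotientAddGroup.mk_surjective r
        exact congrArg QuotientAddGroup.mk (Subtype.ext (by
          show T (dG P.h 1) v = (v : A)
          rw [map_one, hT1]))
      map_mul' := fun y z => LinearMap.ext fun r => by
        obtain ⟨v, rfl⟩ := QuotientAddGroup.mk_surjective r
        exact congrArg QuotientAddGroup.mk (Subtype.ext (by
          show T (dG P.h (y * z)) v = T (dG P.h y) (T (dG P.h z) v)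
          rw [map_mul, hTm])) }
  have hτ : ∀ y (v : Hat), τ y (QuotientAddGroup.mk v) =
      QuotientAddGroup.mk (⟨T (dG P.h y) v, hTHat y v v.2⟩ : Hat) := fun _ _ => rfl
  have hRHat : Rs ≤ Hat := fun r hr b => hDRs b r hr
  let ι : Rs →ₗ[ZMod 2] Hat ⧸ K' :=
    ((QuotientAddGroup.mk' K').comp (AddSubgroup.inclusion hRHat)).toZModLinearMap 2
  let π : Hat ⧸ K' →ₗ[ZMod 2] A ⧸ Rs :=
    (QuotientAddGroup.map K' Rs Hat.subtype fun v hv => hv.1).toZModLinearMap 2
  let ψ : F → (Hat ⧸ K' →ₗ[ZMod 2] Rs) := fun b =>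
    (QuotientAddGroup.lift K'
      (AddMonoidHom.mk' (fun v : Hat => (⟨D b v, v.2 b⟩ : Rs)) fun v w => Subtype.ext (map_add _ _ _))
      fun v hv => by
        rw [AddMonoidHom.mem_ker]
        exact Subtype.ext (hv.2 b)).toZModLinearMap 2
  let Δ : F → (A ⧸ Rs →ₗ[ZMod 2] Hat ⧸ K') := fun b =>
    (QuotientAddGroup.lift Rs
      ((QuotientAddGroup.mk' K').comp (AddMonoidHom.mk' (fun v : A => (⟨D b v, fun c =>
        hquadV c b v⟩ : Hat)) fun v w => Subtype.ext (map_add _ _ _)))
      fun r hr => by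
        rw [AddMonoidHom.mem_ker]
        exact (QuotientAddGroup.eq_zero_iff _).2
          ⟨hDRs b r hr, fun c => hquadR c b r hr⟩).toZModLinearMap 2
  let f : A ⧸ Rs →ₗ[ZMod 2] Rs :=
    (QuotientAddGroup.lift Rs
      (AddMonoidHom.mk' (fun v : A => (⟨v + v, h2 v⟩ : Rs))
        fun v w => Subtype.ext (by show v + w + (v + w) = v + v + (w + w); abel))
      fun r hr => by
        rw [AddMonoidHom.mem_ker]
        exact Subtype.ext (hR r hr)).toZModLinearMap 2
  have hexact : Function.Exact ι π := by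
    intro e
    constructor
    · intro he
      obtain ⟨v, rfl⟩ := QuotientAddGroup.mk_surjective e
      have : (v : A) ∈ Rs := (QuotientAddGroup.eq_zero_iff _).1 he
      exact ⟨⟨v, this⟩, rfl⟩
    · rintro ⟨r, rfl⟩
      exact (QuotientAddGroup.eq_zero_iff _).2 r.2
  have hψΔ : ∀ b v, ψ b (Δ b v) = f (ρ (tG P.h 0 b) v - v) := fun b v => by
    obtain ⟨v, rfl⟩ := QuotientAddGroup.mk_surjective v
    refine Subtype.ext (?_ : D b (D b v) = D b v + D b v)
    rw [hDD, neg_eq_of_add_eq_zero_left]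
    rw [show D b v + D b v + (D b v + D b v) = D b (v + v) + D b (v + v) by rw [map_add]]
    exact hR _ (hDRs b _ (h2 v))
  have hψadd : ∀ b c e, ψ (b + c) e = ψ b e + ψ c e := fun b c e => by
    obtain ⟨v, rfl⟩ := QuotientAddGroup.mk_surjective e
    refine Subtype.ext (?_ : D (b + c) v = D b v + D c v)
    rw [hDadd, add_eq_left]
    rcases eq_or_ne c 0 with rfl | hc
    · rw [show D 0 (v : A) = 0 by rw [hD, tG_zero, hT1, sub_self], map_zero]
    refine hkill _ (v.2 c) c hc ?_ b
    rw [hDD, ← map_add, (hHat2 _ v.2).2, neg_zero]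
  have hΔadd : ∀ b c v, Δ (b + c) v = Δ b v + Δ c v := fun b c v => by
    obtain ⟨v, rfl⟩ := QuotientAddGroup.mk_surjective v
    refine (QuotientAddGroup.eq_iff_sub_mem).2 (?_ : D (b + c) v - (D b v + D c v) ∈ K)
    rw [hDadd, add_sub_cancel_left]
    refine ⟨hquadV b c v, fun d => ?_⟩
    rcases eq_or_ne b 0 with rfl | hb
    · rw [show D 0 (D c v) = 0 by rw [hD, tG_zero, hT1, sub_self], map_zero]
    refine hkill _ (hquadV b c v) b hb ?_ d
    rw [hDD, ← map_add, (hHat2 _ (fun e => hquadV e c v)).2, neg_zero]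
  -- extend the scalars
  have hS : IsSquare P (bcRep (F := F) ρ) (bcRep σ) (bcRep τ) (f.baseChange F) (ι.baseChange F)
      (π.baseChange F) (fun b => (ψ b).baseChange F) (fun b => (Δ b).baseChange F) :=
    { f_comm := fun g v => by
        refine LinearMap.congr_fun (ext_one (f := (f.baseChange F).comp (bcRep ρ g))
          (g := (bcRep σ g).comp (f.baseChange F)) fun x => ?_) v
        obtain ⟨x, rfl⟩ := QuotientAddGroup.mk_surjective x
        simp only [LinearMap.comp_apply, bcRep_tmul, LinearMap.baseChange_tmul]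
        exact congrArg _ (Subtype.ext (map_add (T g) _ _).symm)
      ι_comm := fun y v => by
        refine LinearMap.congr_fun (ext_one (f := (ι.baseChange F).comp (bcRep σ (dG P.h y)))
          (g := (bcRep τ y).comp (ι.baseChange F)) fun x => ?_) v
        simp only [LinearMap.comp_apply, bcRep_tmul, LinearMap.baseChange_tmul]
        rfl
      π_comm := fun y v => by
        refine LinearMap.congr_fun (ext_one (f := (π.baseChange F).comp (bcRep τ y))
          (g := (bcRep ρ (dG P.h y)).comp (π.baseChange F)) fun x => ?_) v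
        obtain ⟨x, rfl⟩ := QuotientAddGroup.mk_surjective x
        simp only [LinearMap.comp_apply, bcRep_tmul, LinearMap.baseChange_tmul]
        rfl
      exact_ := fun v hv => by
        have hex := Module.Flat.lTensor_exact (R := ZMod 2) F hexact
        exact (hex v).1 hv
      π_Δ := fun b v => by
        refine LinearMap.congr_fun (ext_one (f := (π.baseChange F).comp ((Δ b).baseChange F))
          (g := opZ (bcRep ρ) P.h b) fun x => ?_) v
        obtain ⟨x, rfl⟩ := QuotientAddGroup.mk_surjective x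
        simp only [LinearMap.comp_apply, LinearMap.baseChange_tmul, opZ, bc_dl]
        rfl
      ψ_ι := fun b v => by
        refine LinearMap.congr_fun (ext_one (f := ((ψ b).baseChange F).comp (ι.baseChange F))
          (g := opZ (bcRep σ) P.h b) fun x => ?_) v
        simp only [LinearMap.comp_apply, LinearMap.baseChange_tmul, opZ, bc_dl]
        rfl
      ψ_Δ := fun b v => by
        refine LinearMap.congr_fun (ext_one (f := ((ψ b).baseChange F).comp ((Δ b).baseChange F))
          (g := (f.baseChange F).comp (opZ (bcRep ρ) P.h b)) fun x => ?_) v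
        simp only [LinearMap.comp_apply, LinearMap.baseChange_tmul, opZ, bc_dl, hψΔ]
      ψ_add := fun b c v => by
        refine LinearMap.congr_fun (ext_one (f := (ψ (b + c)).baseChange F)
          (g := (ψ b).baseChange F + (ψ c).baseChange F) fun x => ?_) v
        simp only [LinearMap.add_apply, LinearMap.baseChange_tmul, hψadd, TensorProduct.tmul_add]
      Δ_add := fun b c v => by
        refine LinearMap.congr_fun (ext_one (f := (Δ (b + c)).baseChange F)
          (g := (Δ b).baseChange F + (Δ c).baseChange F) fun x => ?_) v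
        simp only [LinearMap.add_apply, LinearMap.baseChange_tmul, hΔadd, TensorProduct.tmul_add]
      ψ_comm := fun y b v => by
        refine LinearMap.congr_fun (ext_one
          (f := ((ψ (nu m (y : F) * b)).baseChange F).comp (bcRep τ y))
          (g := (bcRep σ (dG P.h y)).comp ((ψ b).baseChange F)) fun x => ?_) v
        obtain ⟨x, rfl⟩ := QuotientAddGroup.mk_surjective x
        simp only [LinearMap.comp_apply, bcRep_tmul, LinearMap.baseChange_tmul]
        exact congrArg _ (Subtype.ext (hTD y b x))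
      Δ_comm := fun y b v => by
        refine LinearMap.congr_fun (ext_one
          (f := ((Δ (nu m (y : F) * b)).baseChange F).comp (bcRep ρ (dG P.h y)))
          (g := (bcRep τ y).comp ((Δ b).baseChange F)) fun x => ?_) v
        obtain ⟨x, rfl⟩ := QuotientAddGroup.mk_surjective x
        simp only [LinearMap.comp_apply, bcRep_tmul, LinearMap.baseChange_tmul]
        exact congrArg _ (congrArg QuotientAddGroup.mk (Subtype.ext (hTD y b x))) }
  have h0 := hS.eq_zero hfV hfR
  have := LinearMap.congr_fun h0 (1 ⊗ₜ (QuotientAddGroup.mk a : A ⧸ Rs))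
  rw [LinearMap.baseChange_tmul, LinearMap.zero_apply] at this
  exact congrArg Subtype.val (one_tmul_eq_zero this)

end CfsgLib.Suzuki.Martineau
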