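import Cfsg.Agent.Lib.Suzuki.Martineau.Basic

/-!
# The natural modules of a Suzuki group, and the irreducible modules without fixed points

An irreducible module on which the element of order five has no fixed point is a twist of the
natural module.
-/

set_option autoImplicit false
set_option linter.unusedSectionVars false
set_option linter.style.haveILetI false

namespace CfsgLib.Suzuki.Martineau

open Matrix

variable {F : Type*} [Field F] [CharP F 2] [Fintype F] {m : ℕ}

/-- The natural module twisted by `κ`. -/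
noncomputable def natRep (κ : F →+* F) : Representation F (Cfsg.Sz F m) (Fin 4 → F) :=
  ((Matrix.toLinAlgEquiv' : Matrix (Fin 4) (Fin 4) F ≃ₐ[F] _) : Matrix (Fin 4) (Fin 4) F →*
    Module.End F (Fin 4 → F)).comp
    (((κ.comp (th m)).mapMatrix : Matrix (Fin 4) (Fin 4) F →+* _).toMonoidHom.comp
      ({ toFun := fun g => g.1.1, map_one' := rfl, map_mul' := fun _ _ => rfl } :
        Cfsg.Sz F m →* Matrix (Fin 4) (Fin 4) F))

theorem natRep_apply (κ : F →+* F) (g : Cfsg.Sz F m) (x : Fin 4 → F) :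
    natRep κ g x = g.1.1.map (κ.comp (th m)) *ᵥ x := rfl

variable (h : ThSq F m) (κ : F →+* F)

theorem natRep_tG (a b : F) (x : Fin 4 → F) : natRep κ (tG h a b) x =
    ![x 0 + κ (th m a) * x 1 + κ (th m b + a ^ 2 * th m a) * x 2 +
        κ (th m a * th m b + a ^ 2 * th m a ^ 2 + b ^ 2) * x 3,
      x 1 + κ (a ^ 2) * x 2 + κ (th m b) * x 3, x 2 + κ (th m a) * x 3, x 3] := by
  rw [natRep_apply]
  funext i
  fin_cases i <;>
    simp [Matrix.mulVec, dotProduct, Fin.sum_univ_four, tG, tSL, tMat, h a, h b, map_add, map_mul,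
      map_pow]

theorem natRep_opX (a : F) (x : Fin 4 → F) : opX (natRep κ) h a x =
    ![κ (th m a) * x 1 + κ (a ^ 2 * th m a) * x 2 + κ (a ^ 2 * th m a ^ 2) * x 3,
      κ (a ^ 2) * x 2, κ (th m a) * x 3, 0] := by
  rw [opX, dl_apply, natRep_tG]
  funext i
  fin_cases i <;> simp <;> ring_nf <;> simp [CharTwo.two_eq_zero]

theorem natRep_opZ (b : F) (x : Fin 4 → F) : opZ (natRep κ) h b x =
    ![κ (th m b) * x 2 + κ (b ^ 2) * x 3, κ (th m b) * x 3, 0, 0] := by
  rw [opZ, dl_apply, natRep_tG]
  funext i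
  fin_cases i <;> simp <;> ring_nf <;> simp [CharTwo.two_eq_zero]

theorem natRep_wG (x : Fin 4 → F) : natRep κ (wG (m := m) h) x = ![x 3, x 2, x 1, x 0] := by
  rw [natRep_apply]
  funext i
  fin_cases i <;> simp [Matrix.mulVec, dotProduct, Fin.sum_univ_four, wG, wSL]

theorem natRep_opW (x : Fin 4 → F) : opW (natRep κ) h x = ![x 3, x 2, x 1, x 0] :=
  natRep_wG h κ x

/-- The natural module has no fixed points. -/
theorem natRep_fpf : Fpf (natRep κ) h := fun x => by
  rw [xG_inv_sq, xG_sq, xG_inv, xG]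
  simp only [rmul, tG_inv, natRep_wG, natRep_tG]
  funext i
  fin_cases i <;> simp [Matrix.vecHead, Matrix.vecTail, CharTwo.add_self_eq_zero] <;> ring_nf <;>
    simp [CharTwo.two_eq_zero,
      show (4 : F) = 0 by linear_combination (2 : F) * CharTwo.two_eq_zero (R := F),
      show (6 : F) = 0 by linear_combination (3 : F) * CharTwo.two_eq_zero (R := F),
      show (8 : F) = 0 by linear_combination (4 : F) * CharTwo.two_eq_zero (R := F),
      show (16 : F) = 0 by linear_combination (8 : F) * CharTwo.two_eq_zero (R := F)]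

/-- The weights of the natural module. -/
def natWt (m : ℕ) (κ : F →+* F) (y : F) : Fin 4 → F :=
  ![κ (nu m y), κ y, (κ y)⁻¹, (κ (nu m y))⁻¹]

theorem natRep_dG (y : Fˣ) (x : Fin 4 → F) :
    natRep κ (dG h y) x = fun i => natWt m κ y i * x i := by
  rw [natRep_apply]
  funext i
  have e : th m ((thEquiv h).symm (y : F)) = (y : F) := th_thEquiv_symm h _
  fin_cases i <;>
    simp [Matrix.mulVec, dotProduct, Fin.sum_univ_four, dG, hG, hHom, hSL, hMat, natWt, nu, e,
      map_mul, map_inv₀, mul_comm]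

theorem natWt_zero (y : F) : natWt m κ y 0 = κ (nu m y) := rfl

/-- The standard vectors. -/
def bv (i : Fin 4) : Fin 4 → F := Pi.single i 1

theorem bv_isFix : IsFix (natRep κ) h (bv 0) := fun a b => by
  rw [natRep_tG]; funext i; fin_cases i <;> simp [bv]

theorem bv_isWt (i : Fin 4) : IsWt (natRep κ) h (fun y => natWt m κ y i) (bv i) := fun y => by
  rw [natRep_dG]; funext j
  by_cases e : j = i
  · subst e; simp [bv]
  · simp [bv, e]

theorem eq_of_isFix {x : Fin 4 → F} (hx : IsFix (natRep κ) h x) : x = x 0 • bv 0 := by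
  have h0 : opX (natRep κ) h 1 x = 0 := (dl_eq_zero_iff _).2 (hx 1 0)
  rw [natRep_opX] at h0
  have e1 := congrFun h0 1
  have e2 := congrFun h0 2
  have e0 := congrFun h0 0
  simp at e0 e1 e2
  rw [e1, e2, add_zero, add_zero] at e0
  funext i
  fin_cases i <;> simp [bv, e0, e1, e2]

theorem top_isFixF : IsFixF (natRep κ) h (LinearMap.proj (R := F) (3 : Fin 4)) := fun a b v => by
  simp [natRep_tG]

include h in
theorem natRep_top {U : Submodule F (Fin 4 → F)}
    (hU : ∀ g : Cfsg.Sz F m, U ≤ U.comap (natRep κ g : (Fin 4 → F) →ₗ[F] Fin 4 → F)) (h0 : bv 0 ∈ U) : U = ⊤ := by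
  have h3 : bv 3 ∈ U := by
    have := hU (wG h) h0
    rw [Submodule.mem_comap, ← opW, natRep_opW] at this
    convert this using 1
    funext i; fin_cases i <;> simp [bv]
  have h1 : bv 1 ∈ U := by
    have hz : natRep κ (tG h 0 1) (bv 3) ∈ U := hU _ h3
    have := add_mem hz (add_mem h3 h0)
    rw [natRep_tG] at this
    convert this using 1
    funext i; fin_cases i <;> simp [bv, CharTwo.add_self_eq_zero]
  have h2 : bv 2 ∈ U := by
    have := hU (wG h) h1
    rw [Submodule.mem_comap, ← opW, natRep_opW] at this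
    convert this using 1
    funext i; fin_cases i <;> simp [bv]
  rw [eq_top_iff]
  intro x _
  have : x = x 0 • bv 0 + x 1 • bv 1 + x 2 • bv 2 + x 3 • bv 3 := by
    funext i; fin_cases i <;> simp [bv]
  rw [this]
  exact add_mem (add_mem (add_mem (U.smul_mem _ h0) (U.smul_mem _ h1)) (U.smul_mem _ h2))
    (U.smul_mem _ h3)

theorem natRep_eq_zero_or {U : Submodule F (Fin 4 → F)} (P : Param F m)
    (hU : ∀ g : Cfsg.Sz F m, U ≤ U.comap (natRep κ g : (Fin 4 → F) →ₗ[F] Fin 4 → F)) : U = ⊥ ∨ U = ⊤ := by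
  by_cases hb : U = ⊥
  · exact Or.inl hb
  haveI : Nontrivial U := Submodule.nontrivial_iff_ne_bot.2 hb
  obtain ⟨⟨x, hxU⟩, hx0, hx⟩ := exists_isFix ((natRep κ).subrepresentation U hU) P.h P
  have hx' := eq_of_isFix P.h κ (x := x) fun a b => congrArg Subtype.val (hx a b)
  have hne : x 0 ≠ 0 := fun e => hx0 (Subtype.ext (hx'.trans (by rw [e, zero_smul]; rfl)))
  refine Or.inr (natRep_top P.h κ hU ?_)
  have := U.smul_mem (x 0)⁻¹ hxU
  rwa [hx', Pi.smul_apply, bv, Pi.single_eq_same, smul_eq_mul, mul_one, smul_smul,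
    inv_mul_cancel₀ hne, one_smul] at this

/-- The invariant form. -/
def form (x y : Fin 4 → F) : F := x 0 * y 3 + x 1 * y 2 + x 2 * y 1 + x 3 * y 0

theorem form_natRep (P : Param F m) (g : Cfsg.Sz F m) (x y : Fin 4 → F) :
    form (natRep κ g x) (natRep κ g y) = form x y := by
  let S : Subgroup (Cfsg.Sz F m) :=
    { carrier := {g | ∀ x y, form (natRep κ g x) (natRep κ g y) = form x y}
      one_mem' := fun x y => by rw [rone, rone]
      mul_mem' := fun {g k} hg hk x y => by rw [rmul, rmul, hg, hk]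
      inv_mem' := fun {g} hg x y => by
        rw [← hg, ← rmul, ← rmul, mul_inv_cancel, rone, rone] }
  refine induction_on_sz P.hm P.hF (S := S) ?_ ?_ ?_ g x y
  · intro a b x y
    simp [form, natRep_tG, map_add, map_mul, map_pow]
    ring_nf
    simp [CharTwo.two_eq_zero, show (4 : F) = 2 * 2 by norm_num]
  · intro s x y
    obtain ⟨u, hu⟩ : ∃ u, dG P.h u = hG P.h s := ⟨Units.map (th (F := F) m).toMonoidHom s, by
      rw [dG, MonoidHom.comp_apply]
      congr 1
      exact Units.ext ((thEquiv P.h).symm_apply_apply (s : F))⟩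
    have h1 : κ (nu m (u : F)) ≠ 0 := by simpa using nu_ne_zero (m := m) u.ne_zero
    have h2 : κ (u : F) ≠ 0 := by simp
    rw [← hu]
    simp only [form, natRep_dG, natWt, Matrix.cons_val]
    field_simp
  · intro x y
    rw [natRep_wG, natRep_wG]
    simp [form]
    ring

/-- No proper non-zero invariant subspace. -/
def IsIrr {V : Type*} [AddCommGroup V] [Module F V] (ρ : Representation F (Cfsg.Sz F m) V) : Prop :=
  Nontrivial V ∧ ∀ U : Submodule F V, (∀ g, U ≤ U.comap (ρ g : V →ₗ[F] V)) → U = ⊥ ∨ U = ⊤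

variable {V : Type*} [AddCommGroup V] [Module F V] [Finite V]
  {ρ : Representation F (Cfsg.Sz F m) V}

/-- An irreducible module without fixed points is natural. -/
theorem exists_natural (hf : Fpf ρ h) (P : Param F m) (hirr : IsIrr ρ) :
    ∃ (κ : F →+* F) (e : (Fin 4 → F) ≃ₗ[F] V), ∀ g x, e (natRep κ g x) = ρ g (e x) := by
  haveI := hirr.1
  obtain ⟨p, k, hp0, hp, hw⟩ := exists_isFix_isWt ρ h P
  obtain ⟨κ, hκ⟩ := exists_weight hf P hp0 hp hw
  refine ⟨κ, ?_⟩
  let π := (natRep κ).prod ρ
  let q : (Fin 4 → F) × V := (bv 0, p)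
  let M := cyc π q
  have hq : IsFix π h q := fun a b => Prod.ext (bv_isFix h κ a b) (hp a b)
  have hqw : IsWt π h (fun y => y ^ k) q := fun y => Prod.ext (by
    show natRep κ (dG h y) (bv 0) = _
    rw [bv_isWt h κ 0 y]
    show natWt m κ y 0 • bv 0 = (y : F) ^ k • bv 0
    rw [natWt_zero, ← hκ y]) (hw y)
  -- the projection to the natural module is onto
  have hfst : M.map (LinearMap.fst F (Fin 4 → F) V) = ⊤ := natRep_top h κ
    (fun g => by
      rintro _ ⟨v, hv, rfl⟩
      exact ⟨π g v, cyc_invariant π q g hv, rfl⟩)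
    ⟨q, mem_cyc_self π q, rfl⟩
  have hinjR : ∀ v, ((0 : Fin 4 → F), v) ∈ M → v = 0 := by
    let K := M.comap (LinearMap.inr F (Fin 4 → F) V)
    rcases hirr.2 K (fun g v hv => by
      show (0, ρ g v) ∈ M
      have := cyc_invariant π q g hv
      rwa [Submodule.mem_comap, show π g ((LinearMap.inr F (Fin 4 → F) V) v) = (0, ρ g v) from
        Prod.ext (map_zero (natRep κ g)) rfl] at this) with hK | hK
    · exact fun v hv => by
        have : v ∈ K := hv
        rwa [hK, Submodule.mem_bot] at this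
    · exfalso
      have htop : M = ⊤ := by
        rw [eq_top_iff]
        rintro ⟨x, v⟩ -
        obtain ⟨⟨x', v'⟩, hm', hx'⟩ := (hfst ▸ Submodule.mem_top : x ∈ M.map _)
        obtain rfl : x' = x := hx'
        have h1 : ((0 : Fin 4 → F), v - v') ∈ M := (hK ▸ Submodule.mem_top : v - v' ∈ K)
        have := add_mem hm' h1
        simpa using this
      -- an invariant functional on `V`
      haveI : Nontrivial (Module.Dual F V) := by
        obtain ⟨f, hf'⟩ := Module.Projective.exists_dual_ne_zero F hp0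
        exact ⟨⟨f, 0, fun e => hf' (by rw [e]; rfl)⟩⟩
      haveI : Finite (Module.Dual F V) :=
        Finite.of_injective (fun f : Module.Dual F V => (f : V → F)) DFunLike.coe_injective
      obtain ⟨φ, hφ0, hφ⟩ := exists_isFix ρ.dual h P
      have hφ' : IsFixF ρ h φ := fun a b v => by
        have := LinearMap.congr_fun (hφ a b) (ρ (tG h a b) v)
        rw [Representation.dual_apply, Module.Dual.transpose_apply, LinearMap.comp_apply, ← rmul ρ,
          inv_mul_cancel, rone] at this
        exact this.symm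
      let c := φ (opW ρ h p)
      let ψ : (Fin 4 → F) × V →ₗ[F] F := φ.comp (LinearMap.snd F _ V) -
        c • (LinearMap.proj (R := F) (3 : Fin 4)).comp (LinearMap.fst F _ V)
      have hπ : Fpf π h := fun w => Prod.ext (natRep_fpf h κ w.1) (hf w.2)
      have hψ : IsFixF π h ψ := fun a b w => by
        show φ (ρ (tG h a b) w.2) - c * natRep κ (tG h a b) w.1 3 = _
        rw [hφ', show natRep κ (tG h a b) w.1 3 = w.1 3 from top_isFixF h κ a b w.1]
        rfl
      have hzero := fixF_eq_zero hπ P hψ hq hqw (by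
        show φ (opW ρ h p) - c * (opW (natRep κ) h (bv 0)) 3 = 0
        simp [natRep_opW, bv, c])
      refine hφ0 (LinearMap.ext fun v => ?_)
      have := LinearMap.mem_ker.1 (hzero (htop ▸ Submodule.mem_top : ((0 : Fin 4 → F), v) ∈ M))
      simpa [ψ] using this
  -- so the cyclic module is a graph
  have hbij : Function.Bijective ((LinearMap.fst F (Fin 4 → F) V).comp M.subtype) := by
    refine ⟨(injective_iff_map_eq_zero _).2 fun w hw' => ?_, fun x => ?_⟩
    · obtain ⟨⟨x, v⟩, hmem⟩ := w
      obtain rfl : x = 0 := hw'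
      exact Subtype.ext (Prod.ext rfl (hinjR v hmem))
    · obtain ⟨w, hw1, hw2⟩ := (hfst ▸ Submodule.mem_top : x ∈ M.map _)
      exact ⟨⟨w, hw1⟩, hw2⟩
  let s := LinearEquiv.ofBijective _ hbij
  let f : (Fin 4 → F) →ₗ[F] V := (LinearMap.snd F _ V).comp (M.subtype.comp s.symm.toLinearMap)
  have hs : ∀ x, (s.symm x).1.1 = x := fun x => s.apply_symm_apply x
  have hf1 : ∀ w : (Fin 4 → F) × V, w ∈ M → f w.1 = w.2 := fun w hw' => by
    have : s.symm w.1 = ⟨w, hw'⟩ := s.symm_apply_eq.2 rfl
    show (s.symm w.1).1.2 = _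
    rw [this]
  have heq : ∀ g x, f (natRep κ g x) = ρ g (f x) := fun g x => by
    have := hf1 _ (cyc_invariant π q g (s.symm x).2)
    simpa [π, f, hs] using this
  have hne : f (bv 0) = p := hf1 q (mem_cyc_self π q)
  refine ⟨LinearEquiv.ofBijective f ⟨?_, ?_⟩, heq⟩
  · rw [← LinearMap.ker_eq_bot]
    refine (natRep_eq_zero_or κ P fun g x hx => ?_).resolve_right fun e => hp0 ?_
    · rw [Submodule.mem_comap, LinearMap.mem_ker, heq, LinearMap.mem_ker.1 hx, map_zero]
    · rw [← hne]
      exact LinearMap.mem_ker.1 (e ▸ Submodule.mem_top)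
  · rw [← LinearMap.range_eq_top]
    refine (hirr.2 _ fun g => ?_).resolve_left fun e => hp0 ?_
    · rintro _ ⟨x, rfl⟩
      exact ⟨natRep κ g x, heq g x⟩
    · have : f (bv 0) ∈ LinearMap.range f := ⟨_, rfl⟩
      rwa [e, Submodule.mem_bot, hne] at this

end CfsgLib.Suzuki.Martineau
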