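import Cfsg.Agent.Lib.Suzuki.Martineau.Lift

/-!
# Modules without fixed points are sums of natural modules
-/

set_option autoImplicit false
set_option linter.unusedSectionVars false
set_option linter.style.haveILetI false

namespace CfsgLib.Suzuki.Martineau

variable {F : Type*} [Field F] [CharP F 2] [Fintype F] {m : ℕ}

theorem Fpf.of_surjective {V W : Type*} [AddCommGroup V] [Module F V] [AddCommGroup W] [Module F W]
    {ρ : Representation F (Cfsg.Sz F m) V} {σ : Representation F (Cfsg.Sz F m) W} {h : ThSq F m}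
    (hf : Fpf ρ h) (f : V →ₗ[F] W) (hfs : Function.Surjective f)
    (hc : ∀ g v, f (ρ g v) = σ g (f v)) : Fpf σ h := fun w => by
  obtain ⟨v, rfl⟩ := hfs w
  have := congrArg f (hf v)
  simpa only [map_add, hc, map_zero] using this

theorem Fpf.sub {V : Type*} [AddCommGroup V] [Module F V]
    {ρ : Representation F (Cfsg.Sz F m) V} {h : ThSq F m} (hf : Fpf ρ h) (U : Submodule F V)
    (hU : ∀ g, U ≤ U.comap (ρ g : V →ₗ[F] V)) : Fpf (ρ.subrepresentation U hU) h :=
  fun v => Subtype.ext (hf v.1)

theorem dual_eq {V : Type*} [AddCommGroup V] [Module F V] (ρ : Representation F (Cfsg.Sz F m) V)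
    (g : Cfsg.Sz F m) (φ : Module.Dual F V) (v : V) : ρ.dual g φ v = φ (ρ g⁻¹ v) := by
  rw [Representation.dual_apply, Module.Dual.transpose_apply, LinearMap.comp_apply]

theorem Fpf.dual {V : Type*} [AddCommGroup V] [Module F V]
    {ρ : Representation F (Cfsg.Sz F m) V} {h : ThSq F m} (hf : Fpf ρ h) : Fpf ρ.dual h :=
  fun φ => LinearMap.ext fun v => by
    have := congrArg φ (hf v)
    simp only [map_add, map_zero] at this
    simp only [LinearMap.add_apply, dual_eq, inv_inv, mul_inv_rev, LinearMap.zero_apply]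
    linear_combination this

/-- The form as a map to the dual. -/
def formMap : (Fin 4 → F) →ₗ[F] Module.Dual F (Fin 4 → F) :=
  LinearMap.mk₂ F form (fun x x' y => by simp [form]; ring) (fun c x y => by simp [form]; ring)
    (fun x y y' => by simp [form]; ring) (fun c x y => by simp [form]; ring)

theorem formMap_bijective : Function.Bijective (formMap (F := F)) := by
  have hinj : Function.Injective (formMap (F := F)) := (injective_iff_map_eq_zero _).2 fun x hx => by
    have h : ∀ y, form x y = 0 := fun y => LinearMap.congr_fun hx y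
    funext i
    fin_cases i
    · simpa [form, bv] using h (bv 3)
    · simpa [form, bv] using h (bv 2)
    · simpa [form, bv] using h (bv 1)
    · simpa [form, bv] using h (bv 0)
  exact ⟨hinj, (LinearMap.injective_iff_surjective_of_finrank_eq_finrank (by simp)).1 hinj⟩

variable {V : Type*} [AddCommGroup V] [Module F V] [Finite V]
  {ρ : Representation F (Cfsg.Sz F m) V} {P : Param F m}

theorem isFixF_of_dual {h : ThSq F m} {φ : Module.Dual F V} (hφ : IsFix ρ.dual h φ) :
    IsFixF ρ h φ := fun a b v => by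
  have := LinearMap.congr_fun (hφ a b) (ρ (tG h a b) v)
  rw [dual_eq, ← rmul, inv_mul_cancel, rone] at this
  exact this.symm

/-- An extension of natural modules splits. -/
theorem IsExt.exists_section {κ κ' : F →+* F} {ι : (Fin 4 → F) →ₗ[F] V}
    {π : V →ₗ[F] (Fin 4 → F)} (E : IsExt P ρ κ κ' ι π) :
    ∃ s : (Fin 4 → F) →ₗ[F] V, (∀ g x, s (natRep κ' g x) = ρ g (s x)) ∧ ∀ x, π (s x) = x := by
  classical
  -- the dual extension
  let θ := LinearEquiv.ofBijective (formMap (F := F)) formMap_bijective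
  have hθ : ∀ x y, θ x y = form x y := fun x y => rfl
  let ι' : (Fin 4 → F) →ₗ[F] Module.Dual F V :=
    (π.dualMap).comp θ.toLinearMap
  let π' : Module.Dual F V →ₗ[F] (Fin 4 → F) := θ.symm.toLinearMap.comp ι.dualMap
  haveI : Finite (Module.Dual F V) :=
    Finite.of_injective (fun f : Module.Dual F V => (f : V → F)) DFunLike.coe_injective
  have hπ' : ∀ φ y, form (π' φ) y = φ (ι y) := fun φ y => by
    rw [← hθ]; simp [π']
  have E' : IsExt P ρ.dual κ' κ ι' π' :=
    { fpf := E.fpf.dual
      ι_comm := fun g x => LinearMap.ext fun v => by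
        show form (natRep κ' g x) (π v) = _
        rw [dual_eq]
        show _ = form x (π (ρ g⁻¹ v))
        rw [E.π_comm, ← form_natRep κ' P g x, ← rmul, mul_inv_cancel, rone]
      π_comm := fun g φ => θ.injective (LinearMap.ext fun y => by
        rw [hθ, hθ, hπ', dual_eq, ← E.ι_comm, ← hπ', ← form_natRep κ P g, ← rmul,
          mul_inv_cancel, rone])
      inj := (injective_iff_map_eq_zero _).2 fun x hx => θ.injective (LinearMap.ext fun y => by
        obtain ⟨v, rfl⟩ := E.surj y
        rw [map_zero]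
        exact LinearMap.congr_fun hx v)
      surj := θ.symm.surjective.comp (LinearMap.dualMap_surjective_of_injective E.inj)
      exact_ := fun φ hφ => by
        have hker : LinearMap.ker π ≤ LinearMap.ker φ := fun v hv => by
          obtain ⟨x, rfl⟩ := E.exact_ v hv
          rw [LinearMap.mem_ker, ← hπ', hφ]
          simp [form]
        obtain ⟨r, hr⟩ := π.exists_rightInverse_of_surjective (LinearMap.range_eq_top.2 E.surj)
        refine ⟨θ.symm (φ.comp r), LinearMap.ext fun v => ?_⟩
        show θ (θ.symm (φ.comp r)) (π v) = φ v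
        rw [θ.apply_symm_apply]
        have := hker (show v - r (π v) ∈ LinearMap.ker π by
          rw [LinearMap.mem_ker, map_sub]
          exact sub_eq_zero.2 (LinearMap.congr_fun hr (π v)).symm)
        rw [LinearMap.mem_ker, map_sub, sub_eq_zero] at this
        exact this.symm
      zero := fun x => θ.injective (LinearMap.ext fun y => by
        rw [hθ, hπ', map_zero]
        show form x (π (ι y)) = 0
        rw [E.zero]; simp [form]) }
  obtain ⟨φ, hφ, hφfix, -⟩ := E'.exists_fixed_lift
  have hφι : ∀ y, φ (ι y) = y 3 := fun y => by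
    rw [← hπ', hφ]; simp [form, bv]
  obtain ⟨p, hp, hpfix, hpw⟩ := E.exists_fixed_lift
  set M := cyc ρ p
  have hinj : ∀ v ∈ M, π v = 0 → v = 0 := by
    rcases natRep_eq_zero_or κ P (U := M.comap ι) (fun g x hx => by
      rw [Submodule.mem_comap, Submodule.mem_comap, E.ι_comm]
      exact cyc_invariant ρ p g hx) with hK | hK
    · intro v hv hv0
      obtain ⟨x, rfl⟩ := E.exact_ v hv0
      have hx : x ∈ M.comap ι := hv
      rw [hK, Submodule.mem_bot] at hx
      rw [hx, map_zero]
    · exfalso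
      have hmem : ι (bv 3) ∈ M := (hK ▸ Submodule.mem_top : bv 3 ∈ M.comap ι)
      let ψ : V →ₗ[F] F := φ - φ (opW ρ P.h p) • (LinearMap.proj (R := F) (3 : Fin 4)).comp π
      have hψ : IsFixF ρ P.h ψ := fun a b v => by
        show φ (ρ _ v) - _ * π (ρ _ v) 3 = φ v - _ * π v 3
        rw [isFixF_of_dual hφfix, E.π_comm,
          show natRep κ' (tG P.h a b) (π v) 3 = π v 3 from top_isFixF P.h κ' a b (π v)]
      have h0 := fixF_eq_zero E.fpf P hψ hpfix hpw (by
        show φ (opW ρ P.h p) - φ (opW ρ P.h p) * π (opW ρ P.h p) 3 = 0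
        rw [show π (opW ρ P.h p) = opW (natRep κ') P.h (π p) from E.π_comm _ _, hp, natRep_opW]
        simp [bv])
      have := LinearMap.mem_ker.1 (h0 hmem)
      simp [ψ, E.zero, hφι, bv] at this
  have hsurj : M.map π = ⊤ := natRep_top P.h κ'
    (fun g => by
      rintro _ ⟨v, hv, rfl⟩
      exact ⟨ρ g v, cyc_invariant ρ p g hv, E.π_comm g v⟩)
    ⟨p, mem_cyc_self ρ p, hp⟩
  have hbij : Function.Bijective (π.comp M.subtype) := by
    refine ⟨(injective_iff_map_eq_zero _).2 fun v hv => Subtype.ext (hinj v v.2 hv), fun x => ?_⟩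
    obtain ⟨v, hv, hvx⟩ := (hsurj ▸ Submodule.mem_top : x ∈ M.map π)
    exact ⟨⟨v, hv⟩, hvx⟩
  let e := LinearEquiv.ofBijective _ hbij
  refine ⟨M.subtype.comp e.symm.toLinearMap, fun g x => ?_, fun x => e.apply_symm_apply x⟩
  have : e.symm (natRep κ' g x) = ⟨ρ g (e.symm x).1, cyc_invariant ρ p g (e.symm x).2⟩ := by
    rw [LinearEquiv.symm_apply_eq]
    show _ = π (ρ g (e.symm x).1)
    rw [E.π_comm]
    exact congrArg _ (e.apply_symm_apply x).symm
  show (e.symm (natRep κ' g x)).1 = _
  rw [this]; rfl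

/-- The images of natural modules. -/
def natImages (ρ : Representation F (Cfsg.Sz F m) V) : Set V :=
  {v | ∃ (κ : F →+* F) (s : (Fin 4 → F) →ₗ[F] V),
    (∀ g x, s (natRep κ g x) = ρ g (s x)) ∧ v ∈ LinearMap.range s}

theorem injective_of_comm {κ : F →+* F} {W : Type*} [AddCommGroup W] [Module F W] {σ : Representation F (Cfsg.Sz F m) W}
    (P : Param F m) {s : (Fin 4 → F) →ₗ[F] W} (hs : ∀ g x, s (natRep κ g x) = σ g (s x))
    (h0 : s ≠ 0) : Function.Injective s := by
  rw [← LinearMap.ker_eq_bot]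
  refine (natRep_eq_zero_or κ P fun g x hx => ?_).resolve_right fun e => h0 ?_
  · rw [Submodule.mem_comap, LinearMap.mem_ker, hs, LinearMap.mem_ker.1 hx, map_zero]
  · exact LinearMap.ker_eq_top.1 e

universe u v

/-- Every module without fixed points is a sum of natural modules. -/
theorem span_natImages {F : Type u} [Field F] [CharP F 2] [Fintype F] {m : ℕ} (P : Param F m) :
    ∀ (n : ℕ) (V : Type v) [AddCommGroup V] [Module F V] [Finite V]
      (ρ : Representation F (Cfsg.Sz F m) V), Nat.card V = n → Fpf ρ P.h →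
      Submodule.span F (natImages ρ) = ⊤ := by
  intro n
  induction n using Nat.strong_induction_on with
  | _ n ih =>
  intro V _ _ _ ρ hn hf
  rw [eq_top_iff]
  rcases subsingleton_or_nontrivial V with hV | hV
  · exact fun v _ => by rw [Subsingleton.elim v 0]; exact zero_mem _
  obtain ⟨A, ⟨hAinv, hA0⟩, hmin⟩ := exists_minimal_of_wellFoundedLT
    (fun U : Submodule F V => (∀ g, U ≤ U.comap (ρ g : V →ₗ[F] V)) ∧ U ≠ ⊥)
    ⟨⊤, fun g _ _ => Submodule.mem_top, top_ne_bot⟩
  have hirr : IsIrr (ρ.subrepresentation A hAinv) := by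
    refine ⟨Submodule.nontrivial_iff_ne_bot.2 hA0, fun U hU => ?_⟩
    by_cases hU0 : U.map A.subtype = ⊥
    · left
      rw [eq_bot_iff]
      intro x hx
      have : (x : V) ∈ U.map A.subtype := ⟨x, hx, rfl⟩
      rw [hU0, Submodule.mem_bot] at this
      exact (Submodule.mem_bot F).2 (Subtype.ext this)
    · right
      have hle := hmin ⟨fun g => by
        rintro _ ⟨x, hx, rfl⟩
        exact ⟨_, hU g hx, rfl⟩, hU0⟩ (Submodule.map_subtype_le A U)
      rw [eq_top_iff]
      intro x _
      obtain ⟨y, hy, e⟩ := hle x.2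
      rwa [show x = y from Subtype.ext e.symm]
  obtain ⟨κ, e, he⟩ := exists_natural P.h (hf.sub A hAinv) P hirr
  let ι : (Fin 4 → F) →ₗ[F] V := A.subtype.comp e.toLinearMap
  have hι : ∀ g x, ι (natRep κ g x) = ρ g (ι x) := fun g x => congrArg Subtype.val (he g x)
  have hA : ∀ a ∈ A, a ∈ Submodule.span F (natImages ρ) := fun a ha =>
    Submodule.subset_span ⟨κ, ι, hι, e.symm ⟨a, ha⟩, by simp [ι]⟩
  let σ := ρ.quotient A hAinv
  haveI : Finite (V ⧸ A) := Finite.of_surjective _ A.mkQ_surjective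
  have hlt : Nat.card (V ⧸ A) < n := by
    classical
    haveI := Fintype.ofFinite V
    haveI := Fintype.ofFinite (V ⧸ A)
    rw [← hn, Nat.card_eq_fintype_card, Nat.card_eq_fintype_card]
    refine Fintype.card_lt_of_surjective_not_injective _ A.mkQ_surjective fun hinj => hA0 ?_
    rw [eq_bot_iff]
    exact fun a ha => hinj (by simpa using ha)
  have hq := ih _ hlt (V ⧸ A) σ rfl
    (hf.of_surjective A.mkQ A.mkQ_surjective fun g v => rfl)
  intro v _
  suffices hB : Submodule.span F (natImages σ) ≤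
      (Submodule.span F (natImages ρ)).map A.mkQ by
    obtain ⟨w, hw, hwv⟩ := hB (hq ▸ Submodule.mem_top : A.mkQ v ∈ _)
    have : v - w ∈ A := (Submodule.Quotient.eq A).1 hwv.symm
    simpa using add_mem (hA _ this) hw
  rw [Submodule.span_le]
  rintro x ⟨κ', s, hs, hx⟩
  by_cases hs0 : s = 0
  · obtain ⟨y, rfl⟩ := hx
    exact ⟨0, zero_mem _, by simp [hs0]⟩
  have hsinj := injective_of_comm P hs hs0
  let U := (LinearMap.range s).comap A.mkQ
  have hU : ∀ g, U ≤ U.comap (ρ g : V →ₗ[F] V) := by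
    rintro g w ⟨y, hy⟩
    exact ⟨natRep κ' g y, by rw [hs, hy]; rfl⟩
  let π : U →ₗ[F] (Fin 4 → F) :=
    (LinearEquiv.ofInjective s hsinj).symm.toLinearMap.comp
      ((A.mkQ.comp U.subtype).codRestrict (LinearMap.range s) fun w => w.2)
  have hπ : ∀ w : U, s (π w) = A.mkQ w := fun w =>
    congrArg Subtype.val ((LinearEquiv.ofInjective s hsinj).apply_symm_apply ⟨A.mkQ w, w.2⟩)
  let ι' : (Fin 4 → F) →ₗ[F] U := ι.codRestrict U fun y => ⟨0, by
    rw [map_zero]
    exact ((Submodule.Quotient.mk_eq_zero A).2 (e y).2).symm⟩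
  have E : IsExt P (ρ.subrepresentation U hU) κ κ' ι' π :=
    { fpf := hf.sub U hU
      ι_comm := fun g y => Subtype.ext (hι g y)
      π_comm := fun g w => hsinj (by rw [hπ, hs, hπ]; rfl)
      inj := fun y z hyz => e.injective (Subtype.ext (congrArg (fun u : U => (u : V)) hyz))
      surj := fun y => by
        obtain ⟨w, hw⟩ := A.mkQ_surjective (s y)
        exact ⟨⟨w, y, hw.symm⟩, hsinj (by rw [hπ]; exact hw)⟩
      exact_ := fun w hw => by
        have : (w : V) ∈ A := (Submodule.Quotient.mk_eq_zero A).1 (by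
          have := hπ w
          rw [hw, map_zero] at this
          exact this.symm)
        exact ⟨e.symm ⟨w, this⟩, Subtype.ext (by
          show ((e (e.symm ⟨(w : V), this⟩) : A) : V) = w
          rw [e.apply_symm_apply])⟩
      zero := fun y => hsinj (by
        rw [hπ, map_zero]
        exact (Submodule.Quotient.mk_eq_zero A).2 (e y).2) }
  obtain ⟨t, ht, hts⟩ := E.exists_section
  obtain ⟨y, rfl⟩ := hx
  exact ⟨t y, Submodule.subset_span ⟨κ', U.subtype.comp t, fun g z => congrArg Subtype.val (ht g z),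
    y, rfl⟩, by rw [← hπ, hts]⟩

variable (P) in
theorem spanned (hf : Fpf ρ P.h) : Submodule.span F (natImages ρ) = ⊤ :=
  span_natImages P _ V ρ rfl hf

variable (P) in
/-- Two central operators multiply to zero. -/
theorem opZ_quadratic (hf : Fpf ρ P.h) (a b : F) (v : V) :
    opZ ρ P.h a (opZ ρ P.h b v) = 0 := by
  have hle : Submodule.span F (natImages ρ) ≤
      LinearMap.ker ((opZ ρ P.h a).comp (opZ ρ P.h b)) := by
    rw [Submodule.span_le]
    rintro _ ⟨κ, s, hs, x, rfl⟩
    have hc : ∀ c y, opZ ρ P.h c (s y) = s (opZ (natRep κ) P.h c y) := fun c y => by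
      simp only [opZ, dl_apply, map_add, hs]
    rw [SetLike.mem_coe, LinearMap.mem_ker, LinearMap.comp_apply, hc, hc, natRep_opZ, natRep_opZ]
    rw [show (![_, _, 0, 0] : Fin 4 → F) = 0 from ?_, map_zero]
    funext i; fin_cases i <;> simp
  exact LinearMap.mem_ker.1 (hle (spanned P hf ▸ Submodule.mem_top))

variable (P) in
/-- A non-zero equivariant map to a natural module has a natural section. -/
theorem exists_section_of_ne (hf : Fpf ρ P.h) {κ : F →+* F} {f : V →ₗ[F] (Fin 4 → F)}
    (hc : ∀ g v, f (ρ g v) = natRep κ g (f v)) (h0 : f ≠ 0) :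
    ∃ (κ' : F →+* F) (s : (Fin 4 → F) →ₗ[F] V), (∀ g x, s (natRep κ' g x) = ρ g (s x)) ∧
      Function.Bijective (f.comp s) := by
  by_contra hcon
  push Not at hcon
  refine h0 (LinearMap.ext fun v => ?_)
  have hle : Submodule.span F (natImages ρ) ≤ LinearMap.ker f := by
    rw [Submodule.span_le]
    rintro _ ⟨κ', s, hs, x, rfl⟩
    rw [SetLike.mem_coe, LinearMap.mem_ker]
    by_contra hx
    have hfs : f.comp s ≠ 0 := fun e => hx (LinearMap.congr_fun e x)
    have hinj := injective_of_comm (κ := κ') P (σ := natRep κ)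
      (fun g y => by simp only [LinearMap.comp_apply, hs, hc]) hfs
    exact hcon κ' s hs
      ⟨hinj, (LinearMap.injective_iff_surjective_of_finrank_eq_finrank rfl).1 hinj⟩
  exact LinearMap.mem_ker.1 (hle (spanned P hf ▸ Submodule.mem_top))

variable (P) in
/-- A non-zero vector survives in some natural quotient. -/
theorem exists_proj (hf : Fpf ρ P.h) {v : V} (hv : v ≠ 0) :
    ∃ (κ : F →+* F) (g : V →ₗ[F] (Fin 4 → F)),
      (∀ k w, g (ρ k w) = natRep κ k (g w)) ∧ g v ≠ 0 := by
  obtain ⟨B, ⟨hB, hvB⟩, hmax⟩ := exists_maximal_of_wellFoundedGT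
    (fun U : Submodule F V => (∀ k, U ≤ U.comap (ρ k : V →ₗ[F] V)) ∧ v ∉ U)
    ⟨⊥, fun k => bot_le, by simpa using hv⟩
  have hfq : Fpf (ρ.quotient B hB) P.h :=
    hf.of_surjective B.mkQ B.mkQ_surjective fun k w => rfl
  haveI : Finite (V ⧸ B) := Finite.of_surjective _ B.mkQ_surjective
  have hv' : B.mkQ v ≠ 0 := fun e => hvB ((Submodule.Quotient.mk_eq_zero B).1 e)
  -- every non-zero invariant subspace contains the image of `v`
  have hmem : ∀ U : Submodule F (V ⧸ B), (∀ k, U ≤ U.comap (ρ.quotient B hB k)) → U ≠ ⊥ →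
      B.mkQ v ∈ U := by
    intro U hU hU0
    by_contra hvU
    refine hU0 ?_
    have hle : U.comap B.mkQ ≤ B := hmax ⟨fun k w hw => hU k hw, hvU⟩ (fun w hw => by
      show B.mkQ w ∈ U
      rw [show B.mkQ w = 0 from (Submodule.Quotient.mk_eq_zero B).2 hw]
      exact zero_mem U)
    rw [eq_bot_iff]
    intro x hx
    obtain ⟨w, rfl⟩ := B.mkQ_surjective x
    exact (Submodule.mem_bot F).2 ((Submodule.Quotient.mk_eq_zero B).2 (hle hx))
  -- one natural image is everything
  obtain ⟨κ, s, hs, x, hx, hx0⟩ : ∃ (κ : F →+* F) (s : (Fin 4 → F) →ₗ[F] V ⧸ B),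
      (∀ k y, s (natRep κ k y) = ρ.quotient B hB k (s y)) ∧ ∃ x, s x = B.mkQ v ∧ B.mkQ v ≠ 0 := by
    by_contra hcon
    push Not at hcon
    have hle : Submodule.span F (natImages (ρ.quotient B hB)) ≤ ⊥ := by
      rw [Submodule.span_le]
      rintro _ ⟨κ, s, hs, y, rfl⟩
      by_contra hy
      obtain ⟨x, hx⟩ := hmem (LinearMap.range s) (fun k => by
        rintro _ ⟨z, rfl⟩
        exact ⟨natRep κ k z, hs k z⟩) (fun e => hy (e ▸ ⟨y, rfl⟩))
      exact hv' (hcon κ s hs x hx)
    have := hle (spanned P hfq ▸ Submodule.mem_top : B.mkQ v ∈ _)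
    exact hv' ((Submodule.mem_bot F).1 this)
  have hsinj := injective_of_comm P hs (fun e => hx0 (by rw [← hx, e]; rfl))
  have hssurj : LinearMap.range s = ⊤ := by
    rw [eq_top_iff, ← spanned P hfq, Submodule.span_le]
    rintro _ ⟨κ', t, ht, y, rfl⟩
    by_cases ht0 : t = 0
    · simp [ht0]
    obtain ⟨z, hz⟩ := hmem (LinearMap.range t) (fun k => by
      rintro _ ⟨w, rfl⟩
      exact ⟨natRep κ' k w, ht k w⟩)
      (fun e => ht0 (LinearMap.range_eq_bot.1 e))
    have htop : (LinearMap.range s).comap t = ⊤ := by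
      refine (natRep_eq_zero_or κ' P fun k w hw => ?_).resolve_left fun e => hx0 ?_
      · obtain ⟨r, hr⟩ := hw
        exact ⟨natRep κ k r, by rw [hs, hr, ht]⟩
      · have hz' : z ∈ (LinearMap.range s).comap t := ⟨x, by rw [hx, hz]⟩
        rw [e, Submodule.mem_bot] at hz'
        rw [show B.mkQ v = t z from hz.symm, hz', map_zero]
    exact (htop ▸ Submodule.mem_top : y ∈ (LinearMap.range s).comap t)
  let e := LinearEquiv.ofBijective s ⟨hsinj, LinearMap.range_eq_top.1 hssurj⟩
  refine ⟨κ, e.symm.toLinearMap.comp B.mkQ, fun k w => e.injective ?_, fun e' => hx0 ?_⟩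
  · show e (e.symm _) = s (natRep κ k (e.symm (B.mkQ w)))
    rw [e.apply_symm_apply, hs, show s (e.symm (B.mkQ w)) = B.mkQ w from e.apply_symm_apply _]
    rfl
  · have := congrArg e (show e.symm (B.mkQ v) = 0 from e')
    rwa [map_zero, show e (e.symm (B.mkQ v)) = B.mkQ v from e.apply_symm_apply _] at this

end CfsgLib.Suzuki.Martineau
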